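import Groth.Prelude.Def_W4c1limliniiiiRamP1
import Mathlib.Algebra.Polynomial.FieldDivision
import Mathlib.FieldTheory.IsAlgClosed.Basic
import Mathlib.RingTheory.Polynomial.Wronskian
import Mathlib.Algebra.BigOperators.Group.Finset.Basic

/-!
# Wronskians of pencils
-/

open Polynomial
open W4c1limliniiii

universe u

namespace Groth.Agent.Lib.RamP1.Basic

variable {k : Type u} [Field k] {n : ℕ}

theorem pow_dvd_wronskian {a : k} {e : ℕ} {s : k[X]} (hs : (X - C a) ^ e ∣ s) (t : k[X]) :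
    (X - C a) ^ (e - 1) ∣ wronskian s t := by
  rw [wronskian]
  exact dvd_sub ((((pow_dvd_pow _ (Nat.sub_le e 1))).trans hs).mul_right _)
    ((pow_sub_one_dvd_derivative_of_pow_dvd hs).mul_right _)

theorem natDegree_wronskian_le {d : ℕ} (hd : 1 ≤ d) {F G : k[X]} (hF : F.natDegree ≤ d)
    (hG : G.natDegree ≤ d - 1) : (wronskian F G).natDegree ≤ 2 * d - 2 := by
  by_cases hw : wronskian F G = 0
  · simp [hw]
  have := natDegree_wronskian_lt_add hw
  omega

theorem wronskian_comb (F G : k[X]) (a b c d : k) :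
    wronskian (C a * F + C b * G) (C c * F + C d * G) = C (a * d - b * c) * wronskian F G := by
  simp only [wronskian, derivative_add, derivative_C_mul, map_sub, map_mul]
  ring

/-- `∏ (X - P_i)^{e_i - 1}`. -/
noncomputable def W0 (P : Fin n → k) (e : Fin n → ℕ) : k[X] := ∏ i, (X - C (P i)) ^ (e i - 1)

theorem natDegree_W0 (P : Fin n → k) (e : Fin n → ℕ) : (W0 P e).natDegree = ∑ i, (e i - 1) := by
  rw [W0, natDegree_prod_of_monic _ _ fun i _ => (monic_X_sub_C _).pow _]
  exact Finset.sum_congr rfl fun i _ => by rw [natDegree_pow, natDegree_X_sub_C, mul_one]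

theorem W0_monic (P : Fin n → k) (e : Fin n → ℕ) : (W0 P e).Monic :=
  monic_prod_of_monic _ _ fun i _ => (monic_X_sub_C _).pow _

theorem W0_dvd {P : Fin n → k} (hP : Function.Injective P) {e : Fin n → ℕ} {q : k[X]}
    (h : ∀ i, (X - C (P i)) ^ (e i - 1) ∣ q) : W0 P e ∣ q :=
  Finset.prod_dvd_of_coprime
    (fun i _ j _ hij => ((pairwise_coprime_X_sub_C hP) hij).pow) fun i _ => h i

theorem one_le_d {p d : ℕ} {e : Fin n → ℕ} (he : Admissible p d e) : 1 ≤ d := by
  have h2 : ∑ _i : Fin n, 1 ≤ ∑ i, e i := Finset.sum_le_sum fun i _ => (one_le_two.trans (he.1 i).1)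
  have h := he.2
  rw [Finset.sum_const, Finset.card_univ, Fintype.card_fin, smul_eq_mul, mul_one] at h2
  omega

theorem sum_sub_one {p d : ℕ} {e : Fin n → ℕ} (he : Admissible p d e) :
    ∑ i, (e i - 1) = 2 * d - 2 := by
  have h1 : ∑ i, (e i - 1) + n = ∑ i, e i := by
    conv_rhs => rw [← Finset.sum_congr rfl fun i _ => Nat.sub_add_cancel (one_le_two.trans (he.1 i).1)]
    rw [Finset.sum_add_distrib]
    simp
  have h2 := he.2
  omega

/-- A pencil in normal form. -/
structure Normal (d : ℕ) (g : ℕ) (F G : k[X]) : Prop where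
  g_lt : g < d
  degF : F.natDegree ≤ d
  degG : G.natDegree ≤ d
  Fd : F.coeff d = 1
  Fg : F.coeff g = 0
  Gd : G.coeff d = 0
  Gg : G.coeff g = 1

theorem Normal.degG' {d g : ℕ} {F G : k[X]} (h : Normal d g F G) : G.natDegree ≤ d - 1 := by
  rw [natDegree_le_iff_coeff_eq_zero]
  intro m hm
  rcases eq_or_ne m d with rfl | hne
  · exact h.Gd
  · exact coeff_eq_zero_of_natDegree_lt (lt_of_le_of_lt h.degG (by omega))

theorem Normal.natDegreeF {d g : ℕ} {F G : k[X]} (h : Normal d g F G) : F.natDegree = d :=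
  natDegree_eq_of_le_of_coeff_ne_zero h.degF (by rw [h.Fd]; exact one_ne_zero)

theorem exists_normal {d : ℕ} {V : Submodule k k[X]} (hV : IsPencil d V) :
    ∃ g F G, Normal d g F G ∧ V = Submodule.span k {F, G} := by
  obtain ⟨hle, hrk, ⟨F0, hF0, hdeg⟩, -⟩ := hV
  have hdegle : ∀ s ∈ V, s.natDegree ≤ d := fun s hs =>
    natDegree_le_iff_degree_le.2 (mem_degreeLE.1 (hle hs))
  have hF0ne : F0 ≠ 0 ∨ d = 0 := by
    rcases eq_or_ne F0 0 with rfl | h
    · exact Or.inr (by simpa using hdeg.symm)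
    · exact Or.inl h
  have hnotspan : ∃ G ∈ V, G ∉ Submodule.span k {F0} := by
    by_contra! hall
    have h1 : Module.finrank k V ≤ Module.finrank k (Submodule.span k {F0}) :=
      Submodule.finrank_mono hall
    have h2 := finrank_span_le_card (R := k) ({F0} : Set k[X])
    rw [Set.toFinset_singleton, Finset.card_singleton] at h2
    omega
  obtain ⟨G0, hG0, hG0n⟩ := hnotspan
  have hdne : d ≠ 0 := by
    rintro rfl
    have hc : ∀ s ∈ V, s ∈ Submodule.span k {(1 : k[X])} := fun s hs =>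
      Submodule.mem_span_singleton.2 ⟨s.coeff 0, by
        rw [smul_eq_C_mul, mul_one, ← eq_C_of_natDegree_le_zero (hdegle s hs)]⟩
    have h1 : Module.finrank k V ≤ Module.finrank k (Submodule.span k {(1 : k[X])}) :=
      Submodule.finrank_mono hc
    rw [finrank_span_singleton (one_ne_zero : (1 : k[X]) ≠ 0)] at h1
    omega
  have hF0ne' : F0 ≠ 0 := hF0ne.resolve_right hdne
  have hlead : F0.coeff d ≠ 0 := by
    rw [← hdeg]; exact leadingCoeff_ne_zero.2 hF0ne'
  let F1 := (F0.coeff d)⁻¹ • F0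
  have hF1 : F1 ∈ V := V.smul_mem _ hF0
  have hF1d : F1.coeff d = 1 := by
    simp only [F1, coeff_smul, smul_eq_mul, inv_mul_cancel₀ hlead]
  let G1 := G0 - G0.coeff d • F1
  have hG1 : G1 ∈ V := V.sub_mem hG0 (V.smul_mem _ hF1)
  have hG1d : G1.coeff d = 0 := by simp [G1, hF1d]
  have hG1ne : G1 ≠ 0 := fun h => hG0n (Submodule.mem_span_singleton.2
    ⟨G0.coeff d * (F0.coeff d)⁻¹, by rw [mul_smul]; exact (sub_eq_zero.1 h).symm⟩)
  have hlt : G1.natDegree < d := by
    refine lt_of_le_of_ne (hdegle _ hG1) fun h => ?_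
    rw [← h] at hG1d
    exact leadingCoeff_ne_zero.2 hG1ne hG1d
  let G := G1.leadingCoeff⁻¹ • G1
  have hGg : G.coeff G1.natDegree = 1 := by
    simp only [G, coeff_smul, smul_eq_mul]
    exact inv_mul_cancel₀ (leadingCoeff_ne_zero.2 hG1ne)
  have hGd : G.coeff d = 0 := by simp [G, hG1d]
  let F := F1 - F1.coeff G1.natDegree • G
  have hGV : G ∈ V := V.smul_mem _ hG1
  have hFV : F ∈ V := V.sub_mem hF1 (V.smul_mem _ hGV)
  have hN : Normal d G1.natDegree F G := ⟨hlt, hdegle _ hFV, hdegle _ hGV, by simp [F, hF1d, hGd],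
    by simp [F, hGg], hGd, hGg⟩
  refine ⟨_, F, G, hN, ?_⟩
  have hli : LinearIndependent k ![F, G] := by
    rw [LinearIndependent.pair_iff]
    intro a b hab
    have h1 := congrArg (fun q => q.coeff d) hab
    have h2 := congrArg (fun q => q.coeff G1.natDegree) hab
    simp [hN.Fd, hN.Gd] at h1
    simp [hN.Fg, hN.Gg] at h2
    exact ⟨h1, h2⟩
  have : FiniteDimensional k V := FiniteDimensional.of_finrank_pos (by omega)
  refine (Submodule.eq_of_le_of_finrank_le (Submodule.span_le.2 ?_) ?_).symm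
  · rintro _ (rfl | rfl)
    exacts [hFV, hGV]
  · rw [hrk, ← Matrix.range_cons_cons_empty F G ![], finrank_span_eq_card hli]
    simp

theorem mem_span_pair_C {F G s : k[X]} :
    s ∈ Submodule.span k {F, G} ↔ ∃ a b, C a * F + C b * G = s := by
  simp [Submodule.mem_span_pair, smul_eq_C_mul]

variable [IsAlgClosed k]

theorem isCoprime_of_pencil {d g : ℕ} {F G : k[X]} (hN : Normal d g F G)
    (hV : IsPencil d (Submodule.span k {F, G})) : IsCoprime F G := by
  classical
  refine isCoprime_of_dvd _ _ (fun h => ?_) fun z hz hz0 hzF hzG => ?_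
  · have := hN.Fd
    rw [h.1] at this
    simp at this
  · have hdeg : z.degree ≠ 0 := fun h => hz (isUnit_iff_degree_eq_zero.2 h)
    obtain ⟨a, ha⟩ := IsAlgClosed.exists_root z hdeg
    obtain ⟨s, hs, hsa⟩ := hV.2.2.2 a
    obtain ⟨x, y, rfl⟩ := mem_span_pair_C.1 hs
    refine hsa ?_
    have h1 : F.eval a = 0 := eval_eq_zero_of_dvd_of_eval_eq_zero hzF ha
    have h2 : G.eval a = 0 := eval_eq_zero_of_dvd_of_eval_eq_zero hzG ha
    simp [h1, h2]

omit [IsAlgClosed k] in
theorem wronskian_ne_zero {F G : k[X]} (hs : IsSeparable (Submodule.span k {F, G})) :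
    wronskian F G ≠ 0 := by
  obtain ⟨s, hs1, t, ht, hw⟩ := hs
  obtain ⟨a, b, rfl⟩ := mem_span_pair_C.1 hs1
  obtain ⟨c, d, rfl⟩ := mem_span_pair_C.1 ht
  rw [wronskian_comb] at hw
  exact right_ne_zero_of_mul hw

omit [IsAlgClosed k] in
/-- The member through `P_i`. -/
theorem dvd_member {F G : k[X]} (hc : IsCoprime F G) {a : k} {e : ℕ} (he : 1 ≤ e)
    (h : ∃ s ∈ Submodule.span k {F, G}, s ≠ 0 ∧ e ≤ s.rootMultiplicity a) :
    (X - C a) ^ e ∣ C (G.eval a) * F - C (F.eval a) * G := by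
  obtain ⟨s, hs, hs0, hle⟩ := h
  have hdvd : (X - C a) ^ e ∣ s := (le_rootMultiplicity_iff hs0).1 hle
  obtain ⟨x, y, rfl⟩ := mem_span_pair_C.1 hs
  have h0 : (C x * F + C y * G).eval a = 0 :=
    eval_eq_zero_of_dvd_of_eval_eq_zero ((dvd_pow_self _ (by omega)).trans hdvd) (by simp)
  simp only [eval_add, eval_mul, eval_C] at h0
  by_cases hy : y = 0
  · subst hy
    have hx : x ≠ 0 := by rintro rfl; simp at hs0
    have hF : F.eval a = 0 := by simpa [hx] using h0
    rw [hF, map_zero, zero_mul, sub_zero]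
    simp only [map_zero, zero_mul, add_zero] at hdvd
    exact (hdvd.trans (dvd_of_eq rfl)).trans
      ⟨C (x⁻¹ * G.eval a), by rw [mul_right_comm, ← map_mul, mul_inv_cancel_left₀ hx]⟩
  · have hG : G.eval a = -(x / y) * F.eval a := by field_simp; linear_combination h0
    refine hdvd.trans ⟨C (-(F.eval a) / y), ?_⟩
    rw [hG, add_mul, mul_right_comm, ← map_mul, mul_right_comm (C y), ← map_mul, sub_eq_add_neg,
      ← neg_mul, ← map_neg]
    congr 3 <;> field_simp

end Groth.Agent.Lib.RamP1.Basic
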