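import Mathlib.RingTheory.Smooth.Field
import Mathlib.RingTheory.Etale.Kaehler
import Mathlib.RingTheory.Etale.Field
import Mathlib.RingTheory.Derivation.Basic
import Mathlib.Algebra.MvPolynomial.PDeriv
import Mathlib.RingTheory.AlgebraicIndependent.TranscendenceBasis
import Mathlib.LinearAlgebra.Dimension.Constructions
import Mathlib.FieldTheory.SeparablyGenerated

/-!
# Derivations bound algebraically independent families
-/

universe u v

namespace Groth.Agent.Lib.RamP1.DerDim

variable {K : Type u} {L : Type v} [Field K] [Field L] [Algebra K L] [PerfectField K]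
  [Algebra.EssFiniteType K L]

open scoped IntermediateField.algebraAdjoinAdjoin in
/-- An algebraically independent family is no larger than the space of derivations. -/
theorem card_le_finrank {m : ℕ} {y : Fin m → L} (hy : AlgebraicIndependent K y)
    [FiniteDimensional L (Derivation K L L)] : m ≤ Module.finrank L (Derivation K L L) := by
  classical
  obtain ⟨s, hs, hsep⟩ := exists_isTranscendenceBasis_and_isSeparable_of_perfectField K L
  have hm : m ≤ s.card := by
    have h1 := hy.lift_cardinalMk_le_trdeg
    rw [← hs.cardinalMk_eq_trdeg] at h1
    simpa using h1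
  refine hm.trans ?_
  let A := Algebra.adjoin K (Set.range ((↑) : s → L))
  let F := IntermediateField.adjoin K (Set.range ((↑) : s → L))
  have : Algebra.IsSeparable F L := by
    simp only [F]
    convert! hsep <;> simp
  have : Algebra.FormallyEtale A F := .of_isLocalization (nonZeroDivisors _)
  have : Algebra.FormallyEtale F L := Algebra.FormallyEtale.of_isSeparable F L
  have : Algebra.FormallyEtale A L := .comp A F L
  let e : MvPolynomial s K ≃ₐ[K] A := hs.1.aevalEquiv
  let d : s → Derivation K A L := fun i =>
    Derivation.mk'
      ((Algebra.linearMap A L).restrictScalars K ∘ₗ e.toLinearMap ∘ₗ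
        (MvPolynomial.pderiv i).toLinearMap ∘ₗ e.symm.toLinearMap)
      fun a b => by
        simp only [LinearMap.comp_apply, AlgEquiv.toLinearMap_apply, LinearMap.coe_restrictScalars,
          Derivation.coeFn_coe, map_mul, MvPolynomial.pderiv_mul, map_add, Algebra.linearMap_apply,
          AlgEquiv.apply_symm_apply, Algebra.smul_def]
        ring
  let D : s → Derivation K L L := fun i =>
    ((KaehlerDifferential.isBaseChange_of_formallyEtale K A L).lift
      (d i).liftKaehlerDifferential).compDer (KaehlerDifferential.D K L)
  have hD : ∀ (i : s) (a : A), D i (a : L) = d i a := by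
    intro i a
    change (KaehlerDifferential.isBaseChange_of_formallyEtale K A L).lift _
      (KaehlerDifferential.D K L (algebraMap A L a)) = _
    rw [← KaehlerDifferential.map_D K K A L, IsBaseChange.lift_eq,
      Derivation.liftKaehlerDifferential_comp_D]
  have hDs : ∀ i j : s, D i (j : L) = if i = j then 1 else 0 := by
    intro i j
    let a : A := e (MvPolynomial.X j)
    have ha : (a : L) = j := (hs.1.algebraMap_aevalEquiv (MvPolynomial.X j)).trans (MvPolynomial.aeval_X _ _)
    rw [← ha, hD]
    change algebraMap A L (e (MvPolynomial.pderiv i (e.symm a))) = _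
    simp only [a, AlgEquiv.symm_apply_apply, MvPolynomial.pderiv_X]
    rcases eq_or_ne i j with rfl | h
    · simp
    · simp [h]
  have hli : LinearIndependent L D := by
    refine Fintype.linearIndependent_iff.2 fun c hc j => ?_
    have h := congrArg (fun E : Derivation K L L => E (j : L)) hc
    simp only [Derivation.coe_zero, Pi.zero_apply] at h
    rw [show (∑ i, c i • D i) (j : L) = ∑ i, c i • D i (j : L) from
      map_sum (AddMonoidHom.mk' (fun E : Derivation K L L => E (j : L)) fun _ _ => rfl) _ _] at h
    simpa [hDs] using h
  simpa using hli.fintype_card_le_finrank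

end Groth.Agent.Lib.RamP1.DerDim
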