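import Groth.Agent.Lib.RamP1.Basic
import Groth.Agent.Lib.RamP1.DerDim
import Mathlib.RingTheory.Derivation.MapCoeffs
import Mathlib.RingTheory.Polynomial.Basic
import Mathlib.FieldTheory.IntermediateField.Adjoin.Basic

/-!
# First order deformations of pencils with prescribed ramification
-/

open Polynomial
open W4c1limliniiii
open Groth.Agent.Lib.RamP1.Basic

universe u v

namespace Groth.Agent.Lib.RamP1.Core

noncomputable section

variable {K : Type u} {L : Type v} [Field K] [Field L] [Algebra K L]

/-- A derivation applied coefficientwise. -/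
def dp (D : Derivation K L L) : Derivation K L[X] L[X] :=
  PolynomialModule.equivPolynomialSelf.compDer D.mapCoeffs

theorem coeff_dp (D : Derivation K L L) (q : L[X]) (i : ℕ) : (dp D q).coeff i = D (q.coeff i) := rfl

theorem dp_C (D : Derivation K L L) (a : L) : dp D (C a) = C (D a) := by
  ext i; rw [coeff_dp, coeff_C, coeff_C]; split <;> simp

theorem dp_X (D : Derivation K L L) : dp D (X : L[X]) = 0 := by
  ext i; rw [coeff_dp, coeff_X]; split <;> simp

theorem dp_pow_dvd (D : Derivation K L L) (a : L) (e : ℕ) {s : L[X]} (hs : (X - C a) ^ e ∣ s) :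
    (X - C a) ^ (e - 1) ∣ dp D s := by
  obtain ⟨r, rfl⟩ := hs
  rw [Derivation.leibniz, Derivation.leibniz_pow]
  refine dvd_add ?_ ?_
  · rw [smul_eq_mul]; exact ((pow_dvd_pow _ (Nat.sub_le e 1))).mul_right _
  · rw [smul_eq_mul, nsmul_eq_mul, smul_eq_mul]
    exact Dvd.dvd.mul_left (Dvd.dvd.mul_left (dvd_mul_right _ _) _) _

/-- The Jacobian of the deformation of `F / G`. -/
def jac (F G : L[X]) (D : Derivation K L L) : L[X] := F * dp D G - G * dp D F

variable {n : ℕ}

/-- The data of a point of the space of pencils with ramification. -/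
structure Data (d g : ℕ) (e : Fin n → ℕ) (P : Fin n → L) (F G : L[X]) : Prop where
  inj : Function.Injective P
  two_le : ∀ i, 2 ≤ e i
  sum_eq : ∑ i, (e i - 1) = 2 * d - 2
  normal : Normal d g F G
  coprime : IsCoprime F G
  wronskian_ne : wronskian F G ≠ 0
  dvd : ∀ i, (X - C (P i)) ^ e i ∣ C (G.eval (P i)) * F - C (F.eval (P i)) * G

variable (d : ℕ) (e : Fin n → ℕ) (P : Fin n → L) (F G : L[X])

/-- The reference quadratic form at `P_i`, of value one. -/
def refForm (i : Fin n) : L[X] :=
  open Classical in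
  if G.eval (P i) = 0 then C ((F.eval (P i) ^ 2)⁻¹) * F ^ 2 else C ((G.eval (P i) ^ 2)⁻¹) * G ^ 2

/-- The space receiving first order deformations. -/
def Htan : Submodule L L[X] where
  carrier := {q | q.natDegree ≤ 2 * d ∧
    ∀ i, (X - C (P i)) ^ (e i - 1) ∣ q - C (q.eval (P i)) * refForm P F G i}
  zero_mem' := by simp
  add_mem' := fun {a b} ha hb => ⟨(natDegree_add_le _ _).trans (max_le ha.1 hb.1), fun i => by
    have := dvd_add (ha.2 i) (hb.2 i)
    rwa [show a + b - C ((a + b).eval (P i)) * refForm P F G i =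
      (a - C (a.eval (P i)) * refForm P F G i) + (b - C (b.eval (P i)) * refForm P F G i) by
      rw [eval_add, map_add]; ring]⟩
  smul_mem' := fun c a ha => ⟨(natDegree_smul_le _ _).trans ha.1, fun i => by
    have := (ha.2 i).mul_left (C c)
    rwa [show c • a - C ((c • a).eval (P i)) * refForm P F G i =
      C c * (a - C (a.eval (P i)) * refForm P F G i) by
      rw [eval_smul, smul_eq_mul, smul_eq_C_mul, map_mul]; ring]⟩

/-- The target automorphisms. -/
def Saut : Submodule L L[X] := Submodule.span L {F ^ 2, F * G, G ^ 2}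

variable {d e P F G} {g : ℕ}

theorem mem_of_dvd (hd : Data d g e P F G) {q : L[X]} (i : Fin n) {c : L}
    (hc : (X - C (P i)) ^ (e i - 1) ∣ q - C c * refForm P F G i) (hR : (refForm P F G i).eval (P i) = 1) :
    q.eval (P i) = c ∧ (X - C (P i)) ^ (e i - 1) ∣ q - C (q.eval (P i)) * refForm P F G i := by
  have h1 : (q - C c * refForm P F G i).eval (P i) = 0 :=
    eval_eq_zero_of_dvd_of_eval_eq_zero ((dvd_pow_self _ (by have := hd.two_le i; omega)).trans hc) (by simp)
  rw [eval_sub, eval_mul, eval_C, hR, mul_one, sub_eq_zero] at h1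
  exact ⟨h1, h1 ▸ hc⟩

theorem eval_ne (hd : Data d g e P F G) (i : Fin n) (hG : G.eval (P i) = 0) : F.eval (P i) ≠ 0 := by
  intro hF
  obtain ⟨a, b, hab⟩ := hd.coprime
  have := congrArg (eval (P i)) hab
  simp [hF, hG] at this

theorem eval_refForm (hd : Data d g e P F G) (i : Fin n) : (refForm P F G i).eval (P i) = 1 := by
  simp only [refForm]
  split_ifs with h
  · simp [inv_mul_cancel₀ (pow_ne_zero 2 (eval_ne hd i h))]
  · simp [inv_mul_cancel₀ (pow_ne_zero 2 h)]

/-- The congruence satisfied by `q` follows from one for a multiple. -/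
theorem congr_of (i : Fin n) {T q : L[X]} {κ c : L} (hκ : κ ≠ 0)
    (hT : refForm P F G i = C κ⁻¹ * T) {m : ℕ}
    (h : (X - C (P i)) ^ m ∣ C κ * q - C c * T) :
    (X - C (P i)) ^ m ∣ q - C c * refForm P F G i := by
  have h1 := h.mul_left (C κ⁻¹)
  rwa [show C κ⁻¹ * (C κ * q - C c * T) = q - C c * refForm P F G i by
    rw [hT, mul_sub, ← mul_assoc, ← map_mul, inv_mul_cancel₀ hκ, map_one, one_mul]; ring] at h1

theorem saut_congr (hd : Data d g e P F G) (i : Fin n) {q : L[X]} (hq : q ∈ ({F ^ 2, F * G, G ^ 2} : Set L[X])) :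
    (X - C (P i)) ^ (e i - 1) ∣ q - C (q.eval (P i)) * refForm P F G i := by
  have hs := (pow_dvd_pow (X - C (P i)) (Nat.sub_le (e i) 1)).trans (hd.dvd i)
  let α := G.eval (P i)
  let β := F.eval (P i)
  let s := C α * F - C β * G
  by_cases hα : α = 0
  · have hβ : β ≠ 0 := eval_ne hd i hα
    have hT : refForm P F G i = C ((β ^ 2)⁻¹) * F ^ 2 := if_pos hα
    refine (mem_of_dvd hd i (c := q.eval (P i)) ?_ (eval_refForm hd i)).2
    refine congr_of i (pow_ne_zero 2 hβ) hT ?_
    rcases hq with rfl | rfl | rfl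
    · rw [eval_pow, sub_self]; exact dvd_zero _
    · rw [eval_mul, show C (β ^ 2) * (F * G) - C (β * G.eval (P i)) * F ^ 2 = -(C β * F) * s by
        simp only [s, α, map_mul, map_pow]; ring]
      exact hs.mul_left _
    · rw [eval_pow, show C (β ^ 2) * G ^ 2 - C (G.eval (P i) ^ 2) * F ^ 2 =
        -(C α * F + C β * G) * s by simp only [s, α, map_pow]; ring]
      exact hs.mul_left _
  · have hT : refForm P F G i = C ((α ^ 2)⁻¹) * G ^ 2 := if_neg hα
    refine (mem_of_dvd hd i (c := q.eval (P i)) ?_ (eval_refForm hd i)).2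
    refine congr_of i (pow_ne_zero 2 hα) hT ?_
    rcases hq with rfl | rfl | rfl
    · rw [eval_pow, show C (α ^ 2) * F ^ 2 - C (F.eval (P i) ^ 2) * G ^ 2 =
        (C α * F + C β * G) * s by simp only [s, β, map_pow]; ring]
      exact hs.mul_left _
    · rw [eval_mul, show C (α ^ 2) * (F * G) - C (F.eval (P i) * α) * G ^ 2 = C α * G * s by
        simp only [s, β, map_mul, map_pow]; ring]
      exact hs.mul_left _
    · rw [eval_pow, sub_self]; exact dvd_zero _

theorem saut_natDegree (hd : Data d g e P F G) {q : L[X]} (hq : q ∈ ({F ^ 2, F * G, G ^ 2} : Set L[X])) :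
    q.natDegree ≤ 2 * d := by
  have := hd.normal.degF
  have := hd.normal.degG
  rcases hq with rfl | rfl | rfl
  · exact natDegree_pow_le.trans (by omega)
  · exact natDegree_mul_le.trans (by omega)
  · exact natDegree_pow_le.trans (by omega)

theorem Saut_le (hd : Data d g e P F G) : Saut F G ≤ Htan d e P F G :=
  Submodule.span_le.2 fun _ hq => ⟨saut_natDegree hd hq, fun i => saut_congr hd i hq⟩

/-- The value of `jac` at `P_i`. -/
theorem jac_congr (hd : Data d g e P F G) (D : Derivation K L L) (i : Fin n) :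
    (jac F G D).eval (P i) = F.eval (P i) * D (G.eval (P i)) - G.eval (P i) * D (F.eval (P i)) ∧
      (X - C (P i)) ^ (e i - 1) ∣ jac F G D - C ((jac F G D).eval (P i)) * refForm P F G i := by
  let α := G.eval (P i)
  let β := F.eval (P i)
  let s := C α * F - C β * G
  have hs := (pow_dvd_pow (X - C (P i)) (Nat.sub_le (e i) 1)).trans (hd.dvd i)
  have hds := dp_pow_dvd D (P i) (e i) (hd.dvd i)
  have hδ : dp D s = C (D α) * F + C α * dp D F - (C (D β) * G + C β * dp D G) := by
    simp only [s, map_sub, Derivation.leibniz, dp_C, smul_eq_mul]; ring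
  refine mem_of_dvd hd i (c := β * D α - α * D β) ?_ (eval_refForm hd i)
  by_cases hα : α = 0
  · have hβ : β ≠ 0 := eval_ne hd i hα
    refine congr_of i (pow_ne_zero 2 hβ) (if_pos hα) ?_
    rw [show C (β ^ 2) * jac F G D - C (β * D α - α * D β) * F ^ 2 =
        (C (D β) * F + C β * dp D F) * s - C β * F * dp D s by
      rw [hδ]; simp only [s, jac, map_mul, map_sub, map_pow]; ring]
    exact dvd_sub (hs.mul_left _) (hds.mul_left _)
  · refine congr_of i (pow_ne_zero 2 hα) (if_neg hα) ?_
    rw [show C (α ^ 2) * jac F G D - C (β * D α - α * D β) * G ^ 2 =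
        (C (D α) * G + C α * dp D G) * s - C α * G * dp D s by
      rw [hδ]; simp only [s, jac, map_mul, map_sub, map_pow]; ring]
    exact dvd_sub (hs.mul_left _) (hds.mul_left _)

theorem natDegree_dp (D : Derivation K L L) {q : L[X]} {m : ℕ} (h : q.natDegree ≤ m) :
    (dp D q).natDegree ≤ m :=
  natDegree_le_iff_coeff_eq_zero.2 fun i hi => by
    rw [coeff_dp, coeff_eq_zero_of_natDegree_lt (lt_of_le_of_lt h hi), map_zero]

theorem jac_mem (hd : Data d g e P F G) (D : Derivation K L L) : jac F G D ∈ Htan d e P F G := by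
  refine ⟨?_, fun i => (jac_congr hd D i).2⟩
  have := natDegree_dp D hd.normal.degF
  have := natDegree_dp D hd.normal.degG
  have := hd.normal.degF
  have := hd.normal.degG
  refine (natDegree_sub_le _ _).trans (max_le ?_ ?_) <;> exact natDegree_mul_le.trans (by omega)

theorem not_dvd_succ (hd : Data d g e P F G) (i : Fin n) :
    ¬ (X - C (P i)) ^ (e i + 1) ∣ C (G.eval (P i)) * F - C (F.eval (P i)) * G := by
  classical
  intro h
  let e' := Function.update e i (e i + 1)
  have hd1 : 1 ≤ d := by have := hd.normal.g_lt; omega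
  have h1 : ∀ j, (X - C (P j)) ^ (e' j - 1) ∣ wronskian F G := by
    intro j
    have hj : (X - C (P j)) ^ e' j ∣ C (G.eval (P j)) * F - C (F.eval (P j)) * G := by
      rcases eq_or_ne j i with rfl | hne
      · simpa [e'] using h
      · simpa [e', hne] using hd.dvd j
    by_cases hα : G.eval (P j) = 0
    · have hβ := eval_ne hd j hα
      have h2 : (X - C (P j)) ^ e' j ∣ G := by
        rw [hα, map_zero, zero_mul, zero_sub, dvd_neg] at hj
        exact (isUnit_C.2 (isUnit_iff_ne_zero.2 hβ)).dvd_mul_left.1 hj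
      rw [← wronskian_neg_eq, dvd_neg]
      exact pow_dvd_wronskian h2 _
    · have h2 := pow_dvd_wronskian hj G
      have h3 : wronskian (C (G.eval (P j)) * F - C (F.eval (P j)) * G) G =
          C (G.eval (P j)) * wronskian F G := by
        simp only [wronskian, derivative_sub, derivative_C_mul]; ring
      rw [h3] at h2
      exact (isUnit_C.2 (isUnit_iff_ne_zero.2 hα)).dvd_mul_left.1 h2
  have h2 := natDegree_le_of_dvd (W0_dvd hd.inj h1) hd.wronskian_ne
  rw [natDegree_W0] at h2
  have h3 := natDegree_wronskian_le hd1 hd.normal.degF hd.normal.degG'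
  have h4 : ∑ j, (e' j - 1) = ∑ j, (e j - 1) + 1 := by
    rw [← Finset.add_sum_erase _ _ (Finset.mem_univ i), ← Finset.add_sum_erase _ _ (Finset.mem_univ i)]
    rw [Finset.sum_congr rfl fun j hj => show e' j - 1 = e j - 1 by simp [e', Finset.ne_of_mem_erase hj]]
    have := hd.two_le i
    simp [e']
    omega
  have := hd.sum_eq
  omega

theorem eq_zero_of_jac_mem (hd : Data d g e P F G) (hp : ∀ i, (e i : L) ≠ 0)
    (hgen : IntermediateField.adjoin K (Set.range P ∪ Set.range F.coeff ∪ Set.range G.coeff) = ⊤)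
    (D : Derivation K L L) (hD : jac F G D ∈ Saut F G) : D = 0 := by
  obtain ⟨a, b, c, habc⟩ : ∃ a b c, jac F G D = C a * F ^ 2 + C b * (F * G) + C c * G ^ 2 := by
    obtain ⟨a, z, hz, h1⟩ := Submodule.mem_span_insert.1 hD
    obtain ⟨b, c, h2⟩ := Submodule.mem_span_pair.1 hz
    exact ⟨a, b, c, by rw [h1, ← h2]; simp only [smul_eq_C_mul]; ring⟩
  have hN := hd.normal
  have hkey : F * (dp D G - C a * F - C b * G) = G * (dp D F + C c * G) := by
    simp only [jac] at habc
    linear_combination habc
  have hdvd : F ∣ dp D F + C c * G :=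
    hd.coprime.dvd_of_dvd_mul_left ⟨_, hkey.symm⟩
  obtain ⟨q, hq⟩ := hdvd
  have hdF : dp D F = C (q.coeff 0) * F - C c * G := by
    have hqdeg : q = C (q.coeff 0) := by
      by_cases hq0 : q = 0
      · simp [hq0]
      refine eq_C_of_natDegree_le_zero ?_
      have hF0 : F ≠ 0 := fun h => by have := hN.Fd; simp [h] at this
      have h1 : (F * q).natDegree ≤ d := by
        rw [← hq]
        exact (natDegree_add_le _ _).trans (max_le (natDegree_dp D hN.degF)
          ((natDegree_C_mul_le _ _).trans hN.degG))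
      rw [natDegree_mul hF0 hq0, hN.natDegreeF] at h1
      omega
    rw [← hqdeg]
    linear_combination hq
  have hμ : q.coeff 0 = 0 := by
    have h := congrArg (fun r => r.coeff d) hdF
    simp [coeff_dp, hN.Fd, hN.Gd] at h
    exact h.symm
  have hc : c = 0 := by
    have h := congrArg (fun r => r.coeff g) hdF
    simp [coeff_dp, hN.Fg, hN.Gg] at h
    exact h
  have hF : dp D F = 0 := by rw [hdF, hμ, hc]; simp
  have hF0 : F ≠ 0 := fun h => by have := hN.Fd; simp [h] at this
  have hG1 : dp D G = C a * F + C b * G := by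
    rw [hF, hc] at hkey
    simp only [map_zero, zero_mul, add_zero, mul_zero, mul_eq_zero, hF0, false_or] at hkey
    linear_combination hkey
  have ha : a = 0 := by
    have h := congrArg (fun r => r.coeff d) hG1
    simp [coeff_dp, hN.Fd, hN.Gd] at h
    exact h.symm
  have hb : b = 0 := by
    have h := congrArg (fun r => r.coeff g) hG1
    simp [coeff_dp, hN.Fg, hN.Gg] at h
    exact h.symm
  have hG : dp D G = 0 := by rw [hG1, ha, hb]; simp
  have hP : ∀ i, D (P i) = 0 := by
    intro i
    let α := G.eval (P i)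
    let β := F.eval (P i)
    obtain ⟨r, hr⟩ := hd.dvd i
    have hr0 : r.eval (P i) ≠ 0 := by
      intro h0
      obtain ⟨r', rfl⟩ := (dvd_iff_isRoot (a := P i)).2 h0
      exact not_dvd_succ hd i ⟨r', by rw [hr, pow_succ, mul_assoc]⟩
    have h1 := congrArg (dp D) hr
    simp only [map_sub, Derivation.leibniz, dp_C, smul_eq_mul, hF, hG, Derivation.leibniz_pow, dp_X,
      zero_sub, nsmul_eq_mul, mul_zero, zero_add] at h1
    obtain ⟨m, hm⟩ : ∃ m, e i = m + 2 := ⟨e i - 2, by have := hd.two_le i; omega⟩
    have h2 := congrArg (eval (P i)) h1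
    simp [hm] at h2
    -- `(Dα, Dβ)` is proportional to `(α, β)`
    have h3 : β * D α - α * D β = 0 := by simp only [α, β]; linear_combination h2
    obtain ⟨μ, hμα, hμβ⟩ : ∃ μ, D α = μ * α ∧ D β = μ * β := by
      by_cases hα : α = 0
      · have hβ : β ≠ 0 := eval_ne hd i hα
        exact ⟨D β / β, by rw [hα, map_zero, mul_zero], (div_mul_cancel₀ _ hβ).symm⟩
      · refine ⟨D α / α, (div_mul_cancel₀ _ hα).symm, ?_⟩
        field_simp
        linear_combination -h3
    have h4 : C μ * ((X - C (P i)) ^ e i * r) =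
        (X - C (P i)) ^ (m + 1) * ((X - C (P i)) * dp D r - (e i : L[X]) * C (D (P i)) * r) := by
      rw [← hr]
      have h5 : C (D α) * F - C (D β) * G = C μ * (C α * F - C β * G) := by
        rw [hμα, hμβ]; simp only [map_mul]; ring
      simp only [hm] at h1 ⊢
      simp only [α, β] at h5
      simp only [Nat.add_succ_sub_one, Nat.cast_add, Nat.cast_ofNat] at h1 ⊢
      linear_combination h1 - h5
    have h6 : (X - C (P i)) * (C μ * r - dp D r) = -((e i : L[X]) * C (D (P i)) * r) := by
      have hne : (X - C (P i)) ^ (m + 1) ≠ 0 := pow_ne_zero _ (X_sub_C_ne_zero _)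
      apply mul_left_cancel₀ hne
      rw [hm] at h4 ⊢
      linear_combination h4
    have h7 := congrArg (eval (P i)) h6
    simp [hp i, hr0] at h7
    exact h7
  refine Derivation.ext fun x => ?_
  rw [Derivation.coe_zero, Pi.zero_apply]
  have hx : x ∈ IntermediateField.adjoin K (Set.range P ∪ Set.range F.coeff ∪ Set.range G.coeff) :=
    hgen ▸ IntermediateField.mem_top
  induction hx using IntermediateField.adjoin_induction with
  | mem y hy =>
    rcases hy with (⟨i, rfl⟩ | ⟨m, rfl⟩) | ⟨m, rfl⟩
    · exact hP i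
    · rw [← coeff_dp, hF, coeff_zero]
    · rw [← coeff_dp, hG, coeff_zero]
  | algebraMap y => exact D.map_algebraMap y
  | add y z _ _ hy hz => rw [map_add, hy, hz, add_zero]
  | inv y _ hy => rw [Derivation.leibniz_inv, hy, smul_zero]
  | mul y z _ _ hy hz => rw [Derivation.leibniz, hy, hz, smul_zero, smul_zero, add_zero]

theorem finrank_Saut (hd : Data d g e P F G) : 3 ≤ Module.finrank L (Saut F G) := by
  have hN := hd.normal
  have hli : LinearIndependent L ![F ^ 2, F * G, G ^ 2] := by
    rw [Fintype.linearIndependent_iff]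
    intro a ha
    simp [Fin.sum_univ_three, smul_eq_C_mul] at ha
    have hF0 : F ≠ 0 := fun h => by have := hN.Fd; simp [h] at this
    have hdvd : F ∣ C (a 2) * G ^ 2 := ⟨-(C (a 0) * F + C (a 1) * G), by linear_combination ha⟩
    have h2 : a 2 = 0 := by
      by_contra h
      have h3 : F ∣ G ^ 2 := (isUnit_C.2 (isUnit_iff_ne_zero.2 h)).dvd_mul_left.1 hdvd
      have h4 := ((hd.coprime.pow_right (n := 2)).isUnit_of_dvd' dvd_rfl h3)
      rw [Polynomial.isUnit_iff_degree_eq_zero, degree_eq_natDegree hF0, hN.natDegreeF] at h4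
      have := hN.g_lt
      simp at h4
      omega
    have h3 : F * (C (a 0) * F + C (a 1) * G) = 0 := by
      rw [h2, map_zero] at ha; linear_combination ha
    have h4 := (mul_eq_zero.1 h3).resolve_left hF0
    have h5 := congrArg (fun r => r.coeff d) h4
    have h6 := congrArg (fun r => r.coeff g) h4
    simp [hN.Fd, hN.Gd] at h5
    simp [hN.Fg, hN.Gg] at h6
    intro i
    fin_cases i
    exacts [h5, h6, h2]
  have hr : Set.range ![F ^ 2, F * G, G ^ 2] = {F ^ 2, F * G, G ^ 2} := by
    ext q; simp; tauto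
  rw [Saut, ← hr, finrank_span_eq_card hli]
  simp

theorem card_le {m N : ℕ} [PerfectField K] [Algebra.EssFiniteType K L] (hd : Data d g e P F G)
    (hp : ∀ i, (e i : L) ≠ 0)
    (hgen : IntermediateField.adjoin K (Set.range P ∪ Set.range F.coeff ∪ Set.range G.coeff) = ⊤)
    {y : Fin m → L} (hy : AlgebraicIndependent K y) (H : Submodule L L[X]) (hH : H ≤ Htan d e P F G)
    (hS : Saut F G ≤ H) (hjac : ∀ D : Derivation K L L, jac F G D ∈ H)
    (U : Submodule L (Fin n → L)) (hU : ∀ q ∈ H, (fun i => q.eval (P i)) ∈ U)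
    (hN : Module.finrank L U ≤ N) : m ≤ N := by
  have hfin : FiniteDimensional L H := by
    have hle : H ≤ degreeLT L (2 * d + 1) := fun q hq => by
      rw [mem_degreeLT]
      exact lt_of_le_of_lt degree_le_natDegree (by exact_mod_cast Nat.lt_succ_of_le (hH hq).1)
    have : FiniteDimensional L (degreeLT L (2 * d + 1)) :=
      Module.Finite.equiv (degreeLTEquiv L (2 * d + 1)).symm
    exact Submodule.finiteDimensional_of_le hle
  let E : H →ₗ[L] U :=
    { toFun := fun q => ⟨fun i => (q : L[X]).eval (P i), hU q q.2⟩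
      map_add' := fun a b => Subtype.ext (funext fun i => by simp)
      map_smul' := fun c a => Subtype.ext (funext fun i => by simp) }
  have hker : Module.finrank L (LinearMap.ker E) ≤ 3 := by
    let μ : degreeLT L 3 →ₗ[L] L[X] := (LinearMap.mulLeft L (W0 P e)).comp (degreeLT L 3).subtype
    have : FiniteDimensional L (degreeLT L 3) := Module.Finite.equiv (degreeLTEquiv L 3).symm
    have hle : (LinearMap.ker E).map H.subtype ≤ LinearMap.range μ := by
      rintro _ ⟨q, hq, rfl⟩
      have h0 : ∀ i, (q : L[X]).eval (P i) = 0 := fun i =>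
        congrFun (congrArg Subtype.val (LinearMap.mem_ker.1 hq)) i
      have hdiv : W0 P e ∣ (q : L[X]) := W0_dvd hd.inj fun i => by
        have := (hH q.2).2 i
        rwa [h0 i, map_zero, zero_mul, sub_zero] at this
      obtain ⟨r, hr⟩ := hdiv
      refine ⟨⟨r, mem_degreeLT.2 ?_⟩, hr.symm⟩
      by_cases hr0 : r = 0
      · rw [hr0, degree_zero]; exact WithBot.bot_lt_coe _
      · have h1 := (hH q.2).1
        rw [hr, (W0_monic P e).natDegree_mul' hr0, natDegree_W0, hd.sum_eq] at h1
        exact lt_of_le_of_lt degree_le_natDegree (by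
          have := hd.normal.g_lt
          exact_mod_cast (show r.natDegree < 3 by omega))
    calc Module.finrank L (LinearMap.ker E)
        = Module.finrank L ((LinearMap.ker E).map H.subtype) :=
          (Submodule.equivMapOfInjective _ H.injective_subtype _).finrank_eq
      _ ≤ Module.finrank L (LinearMap.range μ) := Submodule.finrank_mono hle
      _ ≤ Module.finrank L (degreeLT L 3) := LinearMap.finrank_range_le μ
      _ = 3 := by rw [(degreeLTEquiv L 3).finrank_eq, Module.finrank_fin_fun]
  have hHn : Module.finrank L H ≤ 3 + N := by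
    have h1 := E.finrank_range_add_finrank_ker
    have h2 := Submodule.finrank_le (LinearMap.range E)
    omega
  let S' : Submodule L H := (Saut F G).comap H.subtype
  let Ψ : Derivation K L L →ₗ[L] H ⧸ S' :=
    { toFun := fun D => S'.mkQ ⟨jac F G D, hjac D⟩
      map_add' := fun a b => by
        rw [← map_add]
        congr 1
        refine Subtype.ext ?_
        have h : ∀ q, dp (a + b) q = dp a q + dp b q := fun q => by
          ext j; simp [coeff_dp]
        simp only [Submodule.coe_add, jac, h]; ring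
      map_smul' := fun c a => by
        rw [RingHom.id_apply, ← map_smul]
        congr 1
        refine Subtype.ext ?_
        have h : ∀ q, dp (c • a) q = C c * dp a q := fun q => by
          ext j; simp [coeff_dp]
        simp only [Submodule.coe_smul, jac, h, smul_eq_C_mul]; ring }
  have hΨ : Function.Injective Ψ := (injective_iff_map_eq_zero Ψ).2 fun D hD =>
    eq_zero_of_jac_mem hd hp hgen D ((Submodule.Quotient.mk_eq_zero S').1 hD)
  have := FiniteDimensional.of_injective Ψ hΨ
  refine (DerDim.card_le_finrank hy).trans ((LinearMap.finrank_le_finrank_of_injective hΨ).trans ?_)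
  have h1 := Submodule.finrank_quotient_add_finrank S'
  have h2 : Module.finrank L S' = Module.finrank L (Saut F G) :=
    (Submodule.comapSubtypeEquivOfLe hS).finrank_eq
  have h3 := finrank_Saut hd
  omega

theorem card_le_n {m : ℕ} [PerfectField K] [Algebra.EssFiniteType K L] (hd : Data d g e P F G)
    (hp : ∀ i, (e i : L) ≠ 0)
    (hgen : IntermediateField.adjoin K (Set.range P ∪ Set.range F.coeff ∪ Set.range G.coeff) = ⊤)
    {y : Fin m → L} (hy : AlgebraicIndependent K y) : m ≤ n :=
  card_le hd hp hgen hy _ le_rfl (Saut_le hd) (jac_mem hd) ⊤ (fun _ _ => Submodule.mem_top)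
    (by rw [finrank_top, Module.finrank_fin_fun])

theorem card_lt_n {m : ℕ} [PerfectField K] [Algebra.EssFiniteType K L] (hd : Data d g e P F G)
    (hp : ∀ i, (e i : L) ≠ 0)
    (hgen : IntermediateField.adjoin K (Set.range P ∪ Set.range F.coeff ∪ Set.range G.coeff) = ⊤)
    {y : Fin m → L} (hy : AlgebraicIndependent K y) {i j : Fin n} (hij : i ≠ j)
    (hb : G.eval (P i) * F.eval (P j) = F.eval (P i) * G.eval (P j)) : m < n := by
  obtain ⟨c, hc0, hcα, hcβ⟩ : ∃ c, c ≠ 0 ∧ G.eval (P j) = c * G.eval (P i) ∧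
      F.eval (P j) = c * F.eval (P i) := by
    by_cases hα : G.eval (P i) = 0
    · have hβ := eval_ne hd i hα
      rw [hα, zero_mul] at hb
      have hαj : G.eval (P j) = 0 := (mul_eq_zero.1 hb.symm).resolve_left hβ
      exact ⟨F.eval (P j) / F.eval (P i), div_ne_zero (eval_ne hd j hαj) hβ, by rw [hαj, hα, mul_zero],
        (div_mul_cancel₀ _ hβ).symm⟩
    · refine ⟨G.eval (P j) / G.eval (P i), div_ne_zero (fun h => ?_) hα, (div_mul_cancel₀ _ hα).symm, ?_⟩
      · rw [h, mul_zero, mul_eq_zero] at hb
        exact eval_ne hd j h (hb.resolve_left hα)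
      · field_simp
        linear_combination hb
  let φ : (Fin n → L) →ₗ[L] L := LinearMap.proj j - c ^ 2 • LinearMap.proj i
  let H : Submodule L L[X] := Htan d e P F G ⊓
    (LinearMap.ker φ).comap (LinearMap.pi fun l => Polynomial.leval (P l))
  have hS : Saut F G ≤ H := le_inf (Saut_le hd) (Submodule.span_le.2 (by
    rintro q (rfl | rfl | rfl) <;> simp [φ, hcα, hcβ, leval_apply] <;> ring))
  have hjac : ∀ D : Derivation K L L, jac F G D ∈ H := fun D => by
    refine ⟨jac_mem hd D, ?_⟩
    simp [φ, leval_apply, (jac_congr hd D i).1, (jac_congr hd D j).1, hcα, hcβ, Derivation.leibniz]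
    ring
  have hφ : LinearMap.ker φ ≠ ⊤ := fun h => by
    have : φ (Pi.single j 1) = 0 := LinearMap.mem_ker.1 (h ▸ Submodule.mem_top)
    simp [φ, Pi.single_eq_of_ne hij] at this
  have h1 := Submodule.finrank_lt hφ
  rw [Module.finrank_fin_fun] at h1
  have h2 := card_le (N := n - 1) hd hp hgen hy H inf_le_left hS hjac (LinearMap.ker φ)
    (fun q hq => hq.2) (by omega)
  omega

end

end Groth.Agent.Lib.RamP1.Core
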