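import Groth.Agent.Lib.RamP1.Basic
import Mathlib.Algebra.CharP.Basic
import Mathlib.Algebra.CharP.Lemmas
import Mathlib.Algebra.Polynomial.Expand

/-!
# The flip of two indices `e ↦ p - e`

Multiplying a map by `((x - b) / (x - a)) ^ p`, where it takes the values `0, ∞` at `a, b`, does not change
the ramification away from `a, b`.
-/

set_option autoImplicit false

universe u

open Polynomial W4c1limliniiii
open Groth.Agent.Lib.RamP1.Basic

noncomputable section

namespace Groth.Agent.Lib.RamP1.Flip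

variable {k : Type u} [Field k]

theorem hasRamIdx_iff {V : Submodule k k[X]} {t : k} {e : ℕ} :
    HasRamIdx V t e ↔ (∃ s ∈ V, s ≠ 0 ∧ (X - C t) ^ e ∣ s) ∧
      ∀ s ∈ V, (X - C t) ^ (e + 1) ∣ s → s = 0 := by
  unfold HasRamIdx
  constructor
  · rintro ⟨⟨s, hs, h0, hle⟩, hall⟩
    refine ⟨⟨s, hs, h0, (le_rootMultiplicity_iff h0).1 hle⟩, fun r hr hd => ?_⟩
    by_contra h
    have := (le_rootMultiplicity_iff h).2 hd
    have := hall r hr h
    omega
  · rintro ⟨⟨s, hs, h0, hd⟩, hall⟩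
    refine ⟨⟨s, hs, h0, (le_rootMultiplicity_iff h0).2 hd⟩, fun r hr h => ?_⟩
    by_contra hlt
    exact h (hall r hr ((le_rootMultiplicity_iff h).1 (by omega)))

theorem eval_eq_zero_of_pow_dvd {t : k} {e : ℕ} (he : 1 ≤ e) {s : k[X]} (h : (X - C t) ^ e ∣ s) :
    s.eval t = 0 :=
  eval_eq_zero_of_dvd_of_eval_eq_zero ((dvd_pow_self _ (by omega)).trans h) (by simp)

theorem isCoprime_lin {t : k} {q : k[X]} (h : q.eval t ≠ 0) (m : ℕ) : IsCoprime ((X - C t) ^ m) q :=
  ((irreducible_X_sub_C t).coprime_iff_not_dvd.2 fun hd => h (dvd_iff_isRoot.1 hd)).pow_left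

theorem pow_dvd_mul_iff {t : k} {q : k[X]} (h : q.eval t ≠ 0) (m : ℕ) (s : k[X]) :
    (X - C t) ^ m ∣ q * s ↔ (X - C t) ^ m ∣ s :=
  ⟨(isCoprime_lin h m).dvd_of_dvd_mul_left, fun hd => hd.mul_left q⟩

theorem eq_zero_of_pow_succ_dvd {t : k} {e : ℕ} {q : k[X]} (hq : q.eval t ≠ 0) {x : k}
    (h : (X - C t) ^ (e + 1) ∣ C x * ((X - C t) ^ e * q)) : x = 0 := by
  by_contra hx
  rw [pow_succ, mul_left_comm, mul_dvd_mul_iff_left (pow_ne_zero _ (X_sub_C_ne_zero t))] at h
  have := eval_eq_zero_of_dvd_of_eval_eq_zero h (x := t) (by simp)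
  simp [hx, hq] at this

theorem wronskian_mul_both (K A B : k[X]) : wronskian (K * A) (K * B) = K ^ 2 * wronskian A B := by
  simp only [wronskian, derivative_mul]; ring

variable {p : ℕ} [Fact p.Prime] [CharP k p]

theorem derivative_pow_char (q : k[X]) : derivative (q ^ p) = 0 := by
  rw [derivative_pow, CharP.cast_eq_zero k p, map_zero, zero_mul, zero_mul]

theorem wronskian_pow_mul (u v G F : k[X]) :
    wronskian (u ^ p * G) (v ^ p * F) = u ^ p * v ^ p * wronskian G F := by
  simp only [wronskian, derivative_mul, derivative_pow_char]; ring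

theorem pow_char_congr (a t : k) :
    (X - C a) ^ p = (X - C t) ^ p + C ((t - a) ^ p) := by
  have h : (X - C a : k[X]) = (X - C t) + C (t - a) := by rw [map_sub]; ring
  rw [h, add_pow_char, ← map_pow]

theorem dvd_congr {t : k} {m : ℕ} (hm : m ≤ p) {s s' r : k[X]} (h : s = s' + (X - C t) ^ p * r) :
    (X - C t) ^ m ∣ s ↔ (X - C t) ^ m ∣ s' := by
  rw [h]
  exact dvd_add_left ((pow_dvd_pow _ hm).mul_right r)

omit [CharP k p] [Fact p.Prime] in
theorem transfer {V V' : Submodule k k[X]} {t : k} {e : ℕ} (hep : e < p)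
    (h1 : ∀ s ∈ V, s ≠ 0 → ∃ s' ∈ V', s' ≠ 0 ∧ ∀ m ≤ p, (X - C t) ^ m ∣ s → (X - C t) ^ m ∣ s')
    (h2 : ∀ s' ∈ V', s' ≠ 0 → ∃ s ∈ V, s ≠ 0 ∧ ∀ m ≤ p, (X - C t) ^ m ∣ s' → (X - C t) ^ m ∣ s)
    (h : HasRamIdx V t e) : HasRamIdx V' t e := by
  rw [hasRamIdx_iff] at h ⊢
  obtain ⟨⟨s, hs, h0, hd⟩, hall⟩ := h
  obtain ⟨s', hs', h0', hd'⟩ := h1 s hs h0
  refine ⟨⟨s', hs', h0', hd' e hep.le hd⟩, fun r hr hd => ?_⟩
  by_contra hr0
  obtain ⟨q, hq, hq0, hdq⟩ := h2 r hr hr0
  exact hq0 (hall q hq (hdq (e + 1) hep hd))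

omit [CharP k p] [Fact p.Prime] in
theorem comb_eq_zero {A B : k[X]} (hW : wronskian A B ≠ 0) {x y : k}
    (h : C x * A + C y * B = 0) : x = 0 ∧ y = 0 := by
  have h1 : wronskian (C x * A + C y * B) B = C x * wronskian A B := by
    simp only [wronskian, derivative_add, derivative_C_mul]; ring
  have h2 : wronskian A (C x * A + C y * B) = C y * wronskian A B := by
    simp only [wronskian, derivative_add, derivative_C_mul]; ring
  rw [h] at h1 h2
  constructor
  · rw [wronskian_zero_left] at h1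
    simpa using (mul_eq_zero.1 h1.symm).resolve_right hW
  · rw [wronskian_zero_right] at h2
    simpa using (mul_eq_zero.1 h2.symm).resolve_right hW

omit [CharP k p] [Fact p.Prime] in
theorem isPencil_span {d : ℕ} {A B : k[X]} (hA : A.natDegree ≤ d) (hB : B.natDegree ≤ d)
    (hd : A.natDegree = d ∨ B.natDegree = d) (hW : wronskian A B ≠ 0)
    (hbp : ∀ t, A.eval t ≠ 0 ∨ B.eval t ≠ 0) :
    IsPencil d (Submodule.span k {A, B}) ∧ IsSeparable (Submodule.span k {A, B}) := by
  have hAm : A ∈ Submodule.span k {A, B} := Submodule.subset_span (by simp)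
  have hBm : B ∈ Submodule.span k {A, B} := Submodule.subset_span (by simp)
  refine ⟨⟨Submodule.span_le.2 ?_, ?_, ?_, fun t => ?_⟩, A, hAm, B, hBm, hW⟩
  · rintro _ (rfl | rfl) <;> refine mem_degreeLE.2 (degree_le_natDegree.trans ?_)
    · exact_mod_cast hA
    · exact_mod_cast hB
  · have hli : LinearIndependent k ![A, B] := LinearIndependent.pair_iff.2 fun x y h => by
      refine comb_eq_zero hW ?_
      simpa [smul_eq_C_mul] using h
    rw [← Matrix.range_cons_cons_empty A B ![], finrank_span_eq_card hli]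
    simp
  · exact hd.elim (fun h => ⟨A, hAm, h⟩) fun h => ⟨B, hBm, h⟩
  · exact (hbp t).elim (fun h => ⟨A, hAm, h⟩) fun h => ⟨B, hBm, h⟩

omit [CharP k p] [Fact p.Prime] in
theorem natDegree_le_of_mem {d : ℕ} {V : Submodule k k[X]} (hV : IsPencil d V) {s : k[X]}
    (hs : s ∈ V) : s.natDegree ≤ d :=
  natDegree_le_iff_degree_le.2 (mem_degreeLE.1 (hV.1 hs))

omit [CharP k p] [Fact p.Prime] in
theorem span_eq {d : ℕ} {V : Submodule k k[X]} (hV : IsPencil d V) {A B : k[X]} (hA : A ∈ V) (hB : B ∈ V)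
    (hli : ∀ x y : k, C x * A + C y * B = 0 → x = 0 ∧ y = 0) : V = Submodule.span k {A, B} := by
  have : FiniteDimensional k V := FiniteDimensional.of_finrank_pos (by rw [hV.2.1]; omega)
  refine (Submodule.eq_of_le_of_finrank_le (Submodule.span_le.2 ?_) ?_).symm
  · rintro _ (rfl | rfl)
    exacts [hA, hB]
  · have hli' : LinearIndependent k ![A, B] := LinearIndependent.pair_iff.2 fun x y h =>
      hli x y (by simpa [smul_eq_C_mul] using h)
    rw [hV.2.1, ← Matrix.range_cons_cons_empty A B ![], finrank_span_eq_card hli']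
    simp

variable {n : ℕ}

/-- No non-zero member vanishes at both points. -/
def Sep (V : Submodule k k[X]) (a b : k) : Prop :=
  ∀ s ∈ V, s.IsRoot a ∧ s.IsRoot b → s = 0

/-- The flipped pencil. -/
def flipV (p : ℕ) (a b : k) (ea eb : ℕ) (V : Submodule k k[X]) : Submodule k k[X] :=
  ((V.comap (LinearMap.mulLeft k ((X - C a) ^ ea))).map (LinearMap.mulLeft k ((X - C b) ^ (p - eb)))) ⊔
    ((V.comap (LinearMap.mulLeft k ((X - C b) ^ eb))).map (LinearMap.mulLeft k ((X - C a) ^ (p - ea))))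

omit [CharP k p] [Fact p.Prime] in
theorem comap_eq {A B : k[X]} {a : k} {m : ℕ} (hm : 1 ≤ m) (hB : B.eval a ≠ 0) :
    (Submodule.span k {(X - C a) ^ m * A, B}).comap (LinearMap.mulLeft k ((X - C a) ^ m)) =
      Submodule.span k {A} := by
  ext r
  simp only [Submodule.mem_comap, LinearMap.mulLeft_apply, mem_span_pair_C,
    Submodule.mem_span_singleton]
  constructor
  · rintro ⟨x, y, h⟩
    have h1 := congrArg (eval a) h
    simp [zero_pow (show m ≠ 0 by omega), hB] at h1
    subst h1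
    refine ⟨x, mul_left_cancel₀ (pow_ne_zero m (X_sub_C_ne_zero a)) ?_⟩
    rw [smul_eq_C_mul, ← h, map_zero]
    ring
  · rintro ⟨x, rfl⟩
    exact ⟨x, 0, by rw [smul_eq_C_mul, map_zero]; ring⟩

omit [CharP k p] [Fact p.Prime] in
theorem flipV_span {a b : k} {ea eb : ℕ} (hea : 1 ≤ ea) (heb : 1 ≤ eb) {G' F' : k[X]}
    (hF : ((X - C b) ^ eb * F').eval a ≠ 0) (hG : ((X - C a) ^ ea * G').eval b ≠ 0) :
    flipV p a b ea eb (Submodule.span k {(X - C a) ^ ea * G', (X - C b) ^ eb * F'}) =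
      Submodule.span k {(X - C b) ^ (p - eb) * G', (X - C a) ^ (p - ea) * F'} := by
  unfold flipV
  rw [comap_eq hea hF]
  rw [Set.pair_comm ((X - C a) ^ ea * G') ((X - C b) ^ eb * F'), comap_eq heb hG,
    Submodule.map_span, Submodule.map_span, Set.image_singleton, Set.image_singleton,
    ← Submodule.span_union, Set.singleton_union]
  rfl

/-- The main computation. -/
theorem flip_mem [IsAlgClosed k] {d : ℕ} {P : Fin n → k} {e e' : Fin n → ℕ} {i j : Fin n}
    (he : ∀ l, 1 ≤ e l ∧ e l < p)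
    (hei : e' i = p - e i) (hej : e' j = p - e j) (hel : ∀ l, l ≠ i → l ≠ j → e' l = e l)
    (hi : ∀ l, l ≠ i → P l ≠ P i) (hj : ∀ l, l ≠ j → P l ≠ P j) (hij : i ≠ j)
    {V : Submodule k k[X]} (hV : V ∈ ramMaps d P e) (hsep : Sep V (P i) (P j)) :
    flipV p (P i) (P j) (e i) (e j) V ∈ ramMaps (d + p - e i - e j) P e' ∧
      Sep (flipV p (P i) (P j) (e i) (e j) V) (P i) (P j) ∧
      flipV p (P i) (P j) (e' i) (e' j) (flipV p (P i) (P j) (e i) (e j) V) = V := by
  obtain ⟨hP, hS, hram⟩ := hV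
  obtain ⟨⟨G, hG, hG0, hGd⟩, hGall⟩ := hasRamIdx_iff.1 (hram i)
  obtain ⟨⟨F, hF, hF0, hFd⟩, hFall⟩ := hasRamIdx_iff.1 (hram j)
  obtain ⟨G', rfl⟩ := hGd
  obtain ⟨F', rfl⟩ := hFd
  have hab : P i ≠ P j := hj i hij
  set a := P i with ha
  set b := P j with hb
  set ea := e i with hea'
  set eb := e j with heb'
  obtain ⟨hea, hea2⟩ : 1 ≤ ea ∧ ea < p := he i
  obtain ⟨heb, heb2⟩ : 1 ≤ eb ∧ eb < p := he j
  have hFa : ((X - C b) ^ eb * F').eval a ≠ 0 := fun h =>
    hF0 (hsep _ hF ⟨h, eval_eq_zero_of_pow_dvd heb (dvd_mul_right _ _)⟩)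
  have hGb : ((X - C a) ^ ea * G').eval b ≠ 0 := fun h =>
    hG0 (hsep _ hG ⟨eval_eq_zero_of_pow_dvd hea (dvd_mul_right _ _), h⟩)
  have hG'a : G'.eval a ≠ 0 := fun h => hG0 (hGall _ hG (by
    rw [pow_succ]; exact mul_dvd_mul_left _ (dvd_iff_isRoot.2 h)))
  have hF'b : F'.eval b ≠ 0 := fun h => hF0 (hFall _ hF (by
    rw [pow_succ]; exact mul_dvd_mul_left _ (dvd_iff_isRoot.2 h)))
  have hF'a : F'.eval a ≠ 0 := fun h => hFa (by simp [h])
  have hG'b : G'.eval b ≠ 0 := fun h => hGb (by simp [h])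
  have hVspan : V = Submodule.span k {(X - C a) ^ ea * G', (X - C b) ^ eb * F'} := by
    refine span_eq hP hG hF fun x y h => ?_
    have h1 := congrArg (eval a) h
    have h2 := congrArg (eval b) h
    simp [zero_pow (show ea ≠ 0 by omega), zero_pow (show eb ≠ 0 by omega), sub_ne_zero.2 hab,
      sub_ne_zero.2 hab.symm, hF'a, hG'b] at h1 h2
    exact ⟨h2, h1⟩
  have hflip := flipV_span (p := p) hea heb hFa hGb
  rw [← hVspan] at hflip
  rw [hflip]
  set A := (X - C b) ^ (p - eb) * G' with hA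
  set B := (X - C a) ^ (p - ea) * F' with hB
  have hAa : A.eval a ≠ 0 := by simp [hA, hG'a, sub_ne_zero.2 hab]
  have hBb : B.eval b ≠ 0 := by simp [hB, hF'b, sub_ne_zero.2 hab.symm]
  -- degrees
  have hGdeg : ((X - C a) ^ ea * G').natDegree = ea + G'.natDegree := by
    rw [natDegree_mul (pow_ne_zero _ (X_sub_C_ne_zero _)) (right_ne_zero_of_mul hG0), natDegree_pow,
      natDegree_X_sub_C, mul_one]
  have hFdeg : ((X - C b) ^ eb * F').natDegree = eb + F'.natDegree := by
    rw [natDegree_mul (pow_ne_zero _ (X_sub_C_ne_zero _)) (right_ne_zero_of_mul hF0), natDegree_pow,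
      natDegree_X_sub_C, mul_one]
  have hAdeg : A.natDegree = p - eb + G'.natDegree := by
    rw [hA, natDegree_mul (pow_ne_zero _ (X_sub_C_ne_zero _)) (right_ne_zero_of_mul hG0), natDegree_pow,
      natDegree_X_sub_C, mul_one]
  have hBdeg : B.natDegree = p - ea + F'.natDegree := by
    rw [hB, natDegree_mul (pow_ne_zero _ (X_sub_C_ne_zero _)) (right_ne_zero_of_mul hF0), natDegree_pow,
      natDegree_X_sub_C, mul_one]
  have hGle := natDegree_le_of_mem hP hG
  have hFle := natDegree_le_of_mem hP hF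
  have hmax : ((X - C a) ^ ea * G').natDegree = d ∨ ((X - C b) ^ eb * F').natDegree = d := by
    obtain ⟨s, hs, hsd⟩ := hP.2.2.1
    rw [hVspan, mem_span_pair_C] at hs
    obtain ⟨x, y, rfl⟩ := hs
    have := (natDegree_add_le _ _).trans (max_le_max (natDegree_C_mul_le x ((X - C a) ^ ea * G'))
      (natDegree_C_mul_le y ((X - C b) ^ eb * F')))
    omega
  -- the Wronskian
  have hKA : (X - C a) ^ ea * (X - C b) ^ eb * A = (X - C b) ^ p * ((X - C a) ^ ea * G') := by
    have h : (X - C b : k[X]) ^ p = (X - C b) ^ eb * (X - C b) ^ (p - eb) := by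
      rw [← pow_add, Nat.add_sub_cancel' heb2.le]
    rw [h, hA]; ring
  have hKB : (X - C a) ^ ea * (X - C b) ^ eb * B = (X - C a) ^ p * ((X - C b) ^ eb * F') := by
    have h : (X - C a : k[X]) ^ p = (X - C a) ^ ea * (X - C a) ^ (p - ea) := by
      rw [← pow_add, Nat.add_sub_cancel' hea2.le]
    rw [h, hB]; ring
  have hW : wronskian A B ≠ 0 := by
    have h := wronskian_ne_zero (hVspan ▸ hS)
    intro h0
    have h1 := wronskian_mul_both ((X - C a) ^ ea * (X - C b) ^ eb) A B
    rw [hKA, hKB, wronskian_pow_mul, h0, mul_zero] at h1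
    exact mul_ne_zero (mul_ne_zero (pow_ne_zero _ (X_sub_C_ne_zero _))
      (pow_ne_zero _ (X_sub_C_ne_zero _))) h h1
  have hbp : ∀ t, A.eval t ≠ 0 ∨ B.eval t ≠ 0 := by
    intro t
    by_cases hta : t = a
    · subst hta; exact Or.inl hAa
    by_cases htb : t = b
    · subst htb; exact Or.inr hBb
    by_contra hc
    push Not at hc
    simp [hA, hB, sub_ne_zero.2 hta, sub_ne_zero.2 htb] at hc
    obtain ⟨s, hs, hst⟩ := hP.2.2.2 t
    rw [hVspan, mem_span_pair_C] at hs
    obtain ⟨x, y, rfl⟩ := hs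
    simp [hc.1, hc.2] at hst
  have hsep' : Sep (Submodule.span k {A, B}) a b := by
    intro s hs hroot
    obtain ⟨x, y, rfl⟩ := mem_span_pair_C.1 hs
    obtain ⟨h1, h2⟩ := hroot
    have hBa : B.eval a = 0 := eval_eq_zero_of_pow_dvd (by omega : 1 ≤ p - ea) (dvd_mul_right _ _)
    have hAb : A.eval b = 0 := eval_eq_zero_of_pow_dvd (by omega : 1 ≤ p - eb) (dvd_mul_right _ _)
    simp [IsRoot.def, hBa, hAa] at h1
    simp [IsRoot.def, hAb, hBb] at h2
    simp [h1, h2]
  have hpen := isPencil_span (d := d + p - ea - eb) (by omega) (by omega)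
    (hmax.imp (fun h => by omega) (fun h => by omega)) hW hbp
  refine ⟨⟨hpen.1, hpen.2, fun l => ?_⟩, hsep', ?_⟩
  · by_cases hli : l = i
    · subst hli
      rw [hei, hasRamIdx_iff]
      refine ⟨⟨B, Submodule.subset_span (by simp), fun h => hBb (by simp [h]), dvd_mul_right _ _⟩,
        fun s hs hd => ?_⟩
      obtain ⟨x, y, rfl⟩ := mem_span_pair_C.1 hs
      have h0 := eval_eq_zero_of_pow_dvd (by omega : 1 ≤ p - e l + 1) hd
      have hBa : B.eval (P l) = 0 := eval_eq_zero_of_pow_dvd (by omega : 1 ≤ p - e l) (dvd_mul_right _ _)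
      simp [hBa, show A.eval (P l) ≠ 0 from hAa] at h0
      subst h0
      rw [map_zero, zero_mul, zero_add] at hd ⊢
      rw [eq_zero_of_pow_succ_dvd (show F'.eval (P l) ≠ 0 from hF'a) hd, map_zero, zero_mul]
    by_cases hlj : l = j
    · subst hlj
      rw [hej, hasRamIdx_iff]
      refine ⟨⟨A, Submodule.subset_span (by simp), fun h => hAa (by simp [h]), dvd_mul_right _ _⟩,
        fun s hs hd => ?_⟩
      obtain ⟨x, y, rfl⟩ := mem_span_pair_C.1 hs
      have h0 := eval_eq_zero_of_pow_dvd (by omega : 1 ≤ p - e l + 1) hd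
      have hAb : A.eval (P l) = 0 := eval_eq_zero_of_pow_dvd (by omega : 1 ≤ p - e l) (dvd_mul_right _ _)
      simp [hAb, show B.eval (P l) ≠ 0 from hBb] at h0
      subst h0
      rw [map_zero, zero_mul, add_zero] at hd ⊢
      rw [eq_zero_of_pow_succ_dvd (show G'.eval (P l) ≠ 0 from hG'b) hd, map_zero, zero_mul]
    rw [hel l hli hlj]
    set t := P l with ht
    have hta : t - a ≠ 0 := sub_ne_zero.2 (hi l hli)
    have htb : t - b ≠ 0 := sub_ne_zero.2 (hj l hlj)
    have hK : ((X - C a) ^ ea * (X - C b) ^ eb).eval t ≠ 0 := by simp [hta, htb]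
    have key : ∀ x y : k, ∀ m ≤ p, ((X - C t) ^ m ∣ C x * A + C y * B ↔ (X - C t) ^ m ∣
        C (x * (t - b) ^ p) * ((X - C a) ^ ea * G') + C (y * (t - a) ^ p) * ((X - C b) ^ eb * F')) := by
      intro x y m hm
      rw [← pow_dvd_mul_iff hK m (C x * A + C y * B)]
      refine dvd_congr (p := p) hm (r := C x * ((X - C a) ^ ea * G') + C y * ((X - C b) ^ eb * F')) ?_
      rw [mul_add, mul_left_comm _ (C x), mul_left_comm _ (C y), hKA, hKB, pow_char_congr (p := p) b t,
        pow_char_congr (p := p) a t, map_mul, map_mul]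
      ring
    refine transfer (he l).2 ?_ ?_ (hram l)
    · intro s hs hs0
      rw [hVspan, mem_span_pair_C] at hs
      obtain ⟨x, y, rfl⟩ := hs
      refine ⟨C (x / (t - b) ^ p) * A + C (y / (t - a) ^ p) * B, mem_span_pair_C.2 ⟨_, _, rfl⟩,
        fun h => hs0 ?_, fun m hm hd => (key _ _ m hm).2 ?_⟩
      · obtain ⟨h1, h2⟩ := comb_eq_zero hW h
        simp [hta, htb] at h1 h2
        simp [h1, h2]
      · rwa [div_mul_cancel₀ _ (pow_ne_zero _ htb), div_mul_cancel₀ _ (pow_ne_zero _ hta)]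
    · intro s hs hs0
      obtain ⟨x, y, rfl⟩ := mem_span_pair_C.1 hs
      refine ⟨_, hVspan ▸ mem_span_pair_C.2 ⟨_, _, rfl⟩, fun h => hs0 ?_, fun m hm hd => (key x y m hm).1 hd⟩
      obtain ⟨h1, h2⟩ := comb_eq_zero (wronskian_ne_zero (hVspan ▸ hS)) h
      simp [hta, htb] at h1 h2
      simp [h1, h2]
  · rw [hei, hej, Set.pair_comm A B,
      flipV_span (p := p) (by omega : 1 ≤ p - ea) (by omega : 1 ≤ p - eb) hAa hBb,
      Nat.sub_sub_self hea2.le, Nat.sub_sub_self heb2.le, Set.pair_comm, ← hVspan]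

/-- A pencil identifying the two points gives infinitely many pencils for an index larger than `p`. -/
theorem infinite_of_not_sep [IsAlgClosed k] {d : ℕ} {P : Fin n → k} {e e'' : Fin n → ℕ} {i j : Fin n}
    (he : ∀ l, 1 ≤ e l ∧ e l < p)
    (hei : e'' i = p + e i) (hej : e'' j = p - e j) (hel : ∀ l, l ≠ i → l ≠ j → e'' l = e l)
    (hi : ∀ l, l ≠ i → P l ≠ P i) (hj : ∀ l, l ≠ j → P l ≠ P j) (hij : i ≠ j)
    {V : Submodule k k[X]} (hV : V ∈ ramMaps d P e) (hsep : ¬ Sep V (P i) (P j)) :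
    e i + e j ≤ d ∧ (ramMaps (d + p - e j) P e'').Infinite := by
  obtain ⟨hP, hS, hram⟩ := hV
  have hab : P i ≠ P j := hj i hij
  unfold Sep at hsep
  push Not at hsep
  obtain ⟨s, hs, ⟨hsa, hsb⟩, hs0⟩ := hsep
  obtain ⟨⟨G, hG, hG0, hGd⟩, hGall⟩ := hasRamIdx_iff.1 (hram i)
  obtain ⟨⟨F, hF, hF0, hFd⟩, hFall⟩ := hasRamIdx_iff.1 (hram j)
  set a := P i with ha
  set b := P j with hb
  set ea := e i with hea'
  set eb := e j with heb'
  obtain ⟨hea, hea2⟩ : 1 ≤ ea ∧ ea < p := he i
  obtain ⟨heb, heb2⟩ : 1 ≤ eb ∧ eb < p := he j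
  -- the members vanishing at a point form a line
  have line : ∀ (u : k) (G : k[X]), G ∈ V → G ≠ 0 → G.eval u = 0 → s.eval u = 0 →
      ∀ m, (X - C u) ^ m ∣ G → (X - C u) ^ m ∣ s := by
    intro u G hG hG0 hGu hsu m hm
    by_contra hnd
    have hspan : V = Submodule.span k {G, s} := span_eq hP hG hs fun x y h => by
      by_cases hy : y = 0
      · subst hy
        simp only [map_zero, zero_mul, add_zero, mul_eq_zero, C_eq_zero] at h
        exact ⟨h.resolve_right hG0, rfl⟩
      · exfalso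
        refine hnd ?_
        have h1 : s = C (-(x / y)) * G := by
          have h2 : C y * (s - C (-(x / y)) * G) = 0 := by
            rw [mul_sub, ← mul_assoc, ← map_mul, show y * -(x / y) = -x by field_simp, map_neg]
            linear_combination h
          exact sub_eq_zero.1 ((mul_eq_zero.1 h2).resolve_left (by simpa using hy))
        rw [h1]; exact hm.mul_left _
    obtain ⟨r, hr, hru⟩ := hP.2.2.2 u
    rw [hspan, mem_span_pair_C] at hr
    obtain ⟨x, y, rfl⟩ := hr
    exact hru (by simp [hGu, hsu])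
  have hsa' := line a G hG hG0 (eval_eq_zero_of_pow_dvd hea hGd) hsa ea hGd
  have hsb' := line b F hF hF0 (eval_eq_zero_of_pow_dvd heb hFd) hsb eb hFd
  obtain ⟨S', hS'⟩ : (X - C a) ^ ea * (X - C b) ^ eb ∣ s :=
    ((isCoprime_X_sub_C_of_isUnit_sub (sub_ne_zero.2 hab).isUnit).pow).mul_dvd hsa' hsb'
  subst hS'
  have hS'0 : S' ≠ 0 := right_ne_zero_of_mul hs0
  have hS'a : S'.eval a ≠ 0 := fun h => hs0 (hGall _ hs (by
    rw [pow_succ, mul_assoc]; exact mul_dvd_mul_left _ ((dvd_iff_isRoot.2 h).mul_left _)))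
  have hS'b : S'.eval b ≠ 0 := fun h => hs0 (hFall _ hs (by
    rw [pow_succ, mul_comm ((X - C a) ^ ea), mul_assoc]
    exact mul_dvd_mul_left _ ((dvd_iff_isRoot.2 h).mul_left _)))
  obtain ⟨t, ht, hta'⟩ := hP.2.2.2 a
  have hVspan : V = Submodule.span k {t, (X - C a) ^ ea * (X - C b) ^ eb * S'} :=
    span_eq hP ht hs fun x y h => by
      have h1 := congrArg (eval a) h
      simp [show eval a ((X - C a : k[X]) ^ ea * (X - C b) ^ eb * S') = 0 from hsa, hta'] at h1
      subst h1
      simp only [map_zero, zero_mul, zero_add, mul_eq_zero, C_eq_zero] at h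
      exact ⟨rfl, h.resolve_right (by simpa [not_or] using hs0)⟩
  have htb' : t.eval b ≠ 0 := fun h => by
    obtain ⟨r, hr, hrb⟩ := hP.2.2.2 b
    rw [hVspan, mem_span_pair_C] at hr
    obtain ⟨x, y, rfl⟩ := hr
    exact hrb (by simp [h, show eval b ((X - C a : k[X]) ^ ea * (X - C b) ^ eb * S') = 0 from hsb])
  have hW := wronskian_ne_zero (hVspan ▸ hS)
  have hsdeg : ((X - C a) ^ ea * (X - C b) ^ eb * S').natDegree = ea + eb + S'.natDegree := by
    rw [natDegree_mul (left_ne_zero_of_mul hs0) hS'0,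
      natDegree_mul (pow_ne_zero _ (X_sub_C_ne_zero _)) (pow_ne_zero _ (X_sub_C_ne_zero _)),
      natDegree_pow, natDegree_pow, natDegree_X_sub_C, natDegree_X_sub_C, mul_one, mul_one]
  have hsle := natDegree_le_of_mem hP hs
  have htle := natDegree_le_of_mem hP ht
  refine ⟨by omega, ?_⟩
  set T := (X - C b) ^ (p - eb) * t with hT
  set Q := (X - C a) ^ ea * S' with hQ
  set R := (X - C a) ^ p * Q with hR
  have hTdeg : T.natDegree = p - eb + t.natDegree := by
    rw [hT, natDegree_mul (pow_ne_zero _ (X_sub_C_ne_zero _)) (fun h => hta' (by simp [h])),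
      natDegree_pow, natDegree_X_sub_C, mul_one]
  have hQ0 : Q ≠ 0 := mul_ne_zero (pow_ne_zero _ (X_sub_C_ne_zero _)) hS'0
  have hQdeg : Q.natDegree = ea + S'.natDegree := by
    rw [hQ, natDegree_mul (pow_ne_zero _ (X_sub_C_ne_zero _)) hS'0, natDegree_pow, natDegree_X_sub_C,
      mul_one]
  have hRdeg : R.natDegree = p + (ea + S'.natDegree) := by
    rw [hR, natDegree_mul (pow_ne_zero _ (X_sub_C_ne_zero _)) hQ0, natDegree_pow, natDegree_X_sub_C,
      mul_one, hQdeg]
  have hTa : T.eval a ≠ 0 := by simp [hT, hta', sub_ne_zero.2 hab]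
  have hQa : Q.eval a = 0 := eval_eq_zero_of_pow_dvd hea (dvd_mul_right _ _)
  have hTb : T.eval b = 0 := eval_eq_zero_of_pow_dvd (by omega : 1 ≤ p - eb) (dvd_mul_right _ _)
  have hQb : Q.eval b ≠ 0 := by simp [hQ, hS'b, sub_ne_zero.2 hab.symm]
  have hKT : (X - C b) ^ eb * T = (X - C b) ^ p * t := by
    rw [hT, ← mul_assoc, ← pow_add, Nat.add_sub_cancel' heb2.le]
  have hKQ : (X - C b) ^ eb * Q = (X - C a) ^ ea * (X - C b) ^ eb * S' := by rw [hQ]; ring
  have hmem : ∀ c : k, Submodule.span k {T + C c * Q, R} ∈ ramMaps (d + p - eb) P e'' := by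
    intro c
    have hW' : wronskian (T + C c * Q) R ≠ 0 := by
      have h1 : wronskian (T + C c * Q) R = wronskian T R + C c * wronskian Q R := by
        simp only [wronskian, derivative_add, derivative_C_mul]; ring
      have h2 : wronskian Q R = 0 := by
        rw [hR]; simp only [wronskian, derivative_mul, derivative_pow_char]; ring
      rw [h1, h2, mul_zero, add_zero]
      intro h0
      have h3 := wronskian_mul_both ((X - C b) ^ eb) T R
      rw [h0, mul_zero, hKT, hR, mul_left_comm _ ((X - C a) ^ p), hKQ, wronskian_pow_mul] at h3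
      exact mul_ne_zero (mul_ne_zero (pow_ne_zero _ (X_sub_C_ne_zero _))
        (pow_ne_zero _ (X_sub_C_ne_zero _))) hW h3
    have hdegs : (T + C c * Q).natDegree ≤ d + p - eb := by
      refine (natDegree_add_le _ _).trans (max_le (by omega) ((natDegree_C_mul_le _ _).trans (by omega)))
    have hbp : ∀ u, (T + C c * Q).eval u ≠ 0 ∨ R.eval u ≠ 0 := by
      intro u
      by_cases hua : u = a
      · subst hua; exact Or.inl (by simp [hQa, hTa])
      by_cases hub : u = b
      · subst hub; exact Or.inr (by simp [hR, hQb, sub_ne_zero.2 hua])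
      by_contra hc
      push Not at hc
      have h2 : S'.eval u = 0 := by simpa [hR, hQ, sub_ne_zero.2 hua] using hc.2
      have h1 : t.eval u = 0 := by simpa [hT, hQ, h2, sub_ne_zero.2 hub] using hc.1
      obtain ⟨r, hr, hru⟩ := hP.2.2.2 u
      rw [hVspan, mem_span_pair_C] at hr
      obtain ⟨x, y, rfl⟩ := hr
      exact hru (by simp [h1, h2])
    have hd' : (T + C c * Q).natDegree = d + p - eb ∨ R.natDegree = d + p - eb := by
      obtain ⟨r, hr, hrd⟩ := hP.2.2.1
      rw [hVspan, mem_span_pair_C] at hr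
      obtain ⟨x, y, rfl⟩ := hr
      have := (natDegree_add_le _ _).trans (max_le_max (natDegree_C_mul_le x t)
        (natDegree_C_mul_le y ((X - C a) ^ ea * (X - C b) ^ eb * S')))
      by_cases hsd : ea + eb + S'.natDegree = d
      · right; omega
      · left
        have h2 : (C c * Q).natDegree < T.natDegree :=
          lt_of_le_of_lt (natDegree_C_mul_le _ _) (by omega)
        rw [natDegree_add_eq_left_of_natDegree_lt h2]
        omega
    have hpen := isPencil_span hdegs (by omega) hd' hW' hbp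
    refine ⟨hpen.1, hpen.2, fun l => ?_⟩
    by_cases hli : l = i
    · subst hli
      rw [hei, hasRamIdx_iff]
      refine ⟨⟨R, Submodule.subset_span (by simp), mul_ne_zero (pow_ne_zero _ (X_sub_C_ne_zero _)) hQ0,
        ⟨S', by rw [hR, hQ, pow_add]; ring⟩⟩, fun r hr hd => ?_⟩
      obtain ⟨x, y, rfl⟩ := mem_span_pair_C.1 hr
      have h0 := eval_eq_zero_of_pow_dvd (by omega : 1 ≤ p + e l + 1) hd
      have hRa : R.eval (P l) = 0 := by
        rw [hR, eval_mul, show Q.eval (P l) = 0 from hQa, mul_zero]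
      simp [hRa, show Q.eval (P l) = 0 from hQa, show T.eval (P l) ≠ 0 from hTa] at h0
      subst h0
      rw [map_zero, zero_mul, zero_add] at hd ⊢
      have h3 : C y * R = C y * ((X - C (P l)) ^ (p + e l) * S') := by rw [hR, hQ, pow_add]; ring
      rw [h3] at hd
      rw [eq_zero_of_pow_succ_dvd (show S'.eval (P l) ≠ 0 from hS'a) hd, map_zero, zero_mul]
    by_cases hlj : l = j
    · subst hlj
      rw [hej, hasRamIdx_iff]
      have hab' : (P l - a) ^ p ≠ 0 := pow_ne_zero _ (sub_ne_zero.2 (hj i hij).symm)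
      -- the member vanishing at `b`
      let y0 : k := -(c / (P l - a) ^ p)
      have hcomb : T + C c * Q + C y0 * R =
          (X - C (P l)) ^ (p - e l) * (t + (X - C (P l)) ^ e l * (C y0 * Q)) := by
        rw [hR, pow_char_congr (p := p) a (P l), hT]
        have h4 : C y0 * C ((P l - a) ^ p) = -C c := by
          rw [← map_mul, ← map_neg, show y0 * (P l - a) ^ p = -c by simp [y0, div_mul_cancel₀ _ hab']]
        have h5 : (X - C (P l) : k[X]) ^ (p - e l) * (X - C (P l)) ^ e l = (X - C (P l)) ^ p := by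
          rw [← pow_add, Nat.sub_add_cancel (he l).2.le]
        linear_combination Q * h4 - C y0 * Q * h5
      have hne : (t + (X - C (P l)) ^ e l * (C y0 * Q)).eval (P l) ≠ 0 := by
        simp [zero_pow (show e l ≠ 0 by omega), show t.eval (P l) ≠ 0 from htb']
      refine ⟨⟨T + C c * Q + C y0 * R, mem_span_pair_C.2 ⟨1, y0, by simp⟩, ?_, hcomb ▸ dvd_mul_right _ _⟩,
        fun r hr hd => ?_⟩
      · rw [hcomb]
        exact mul_ne_zero (pow_ne_zero _ (X_sub_C_ne_zero _)) fun h => hne (by simp [h])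
      obtain ⟨x, y, rfl⟩ := mem_span_pair_C.1 hr
      have h0 := eval_eq_zero_of_pow_dvd (by omega : 1 ≤ p - e l + 1) hd
      simp [hR, show T.eval (P l) = 0 from hTb] at h0
      have h1 : x * c + y * (P l - a) ^ p = 0 := by
        refine (mul_eq_zero.1 (?_ : (x * c + y * (P l - a) ^ p) * Q.eval (P l) = 0)).resolve_right hQb
        linear_combination h0
      have hy : y = x * y0 := by
        simp only [y0]
        field_simp
        linear_combination h1
      subst hy
      have h2 : C x * (T + C c * Q) + C (x * y0) * R =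
          C x * ((X - C (P l)) ^ (p - e l) * (t + (X - C (P l)) ^ e l * (C y0 * Q))) := by
        rw [← hcomb, map_mul]; ring
      rw [h2] at hd ⊢
      rw [eq_zero_of_pow_succ_dvd hne hd, map_zero, zero_mul]
    rw [hel l hli hlj]
    set u := P l with hu
    have hua : u - a ≠ 0 := sub_ne_zero.2 (hi l hli)
    have hub : u - b ≠ 0 := sub_ne_zero.2 (hj l hlj)
    have hK : ((X - C b) ^ eb).eval u ≠ 0 := by simp [hub]
    have key : ∀ x y : k, ∀ m ≤ p, ((X - C u) ^ m ∣ C x * (T + C c * Q) + C y * R ↔ (X - C u) ^ m ∣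
        C (x * (u - b) ^ p) * t +
          C (x * c + y * (u - a) ^ p) * ((X - C a) ^ ea * (X - C b) ^ eb * S')) := by
      intro x y m hm
      rw [← pow_dvd_mul_iff hK m (C x * (T + C c * Q) + C y * R)]
      refine dvd_congr (p := p) hm (r := C x * t + C y * ((X - C a) ^ ea * (X - C b) ^ eb * S')) ?_
      rw [hR, pow_char_congr (p := p) a u, map_add, map_mul, map_mul, map_mul, ← hKQ]
      have h6 := hKT
      rw [pow_char_congr (p := p) b u] at h6
      linear_combination C x * h6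
    refine transfer (he l).2 ?_ ?_ (hram l)
    · intro r hr hr0
      rw [hVspan, mem_span_pair_C] at hr
      obtain ⟨x, y, rfl⟩ := hr
      refine ⟨C (x / (u - b) ^ p) * (T + C c * Q) + C ((y - x / (u - b) ^ p * c) / (u - a) ^ p) * R,
        mem_span_pair_C.2 ⟨_, _, rfl⟩, fun h => hr0 ?_, fun m hm hd => (key _ _ m hm).2 ?_⟩
      · obtain ⟨h1, h2⟩ := comb_eq_zero hW' h
        simp [hua, hub] at h1
        subst h1
        simp [hua] at h2
        simp [h2]
      · rwa [div_mul_cancel₀ _ (pow_ne_zero _ hub), div_mul_cancel₀ _ (pow_ne_zero _ hua),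
          add_sub_cancel]
    · intro r hr hr0
      obtain ⟨x, y, rfl⟩ := mem_span_pair_C.1 hr
      refine ⟨_, hVspan ▸ mem_span_pair_C.2 ⟨_, _, rfl⟩, fun h => hr0 ?_, fun m hm hd => (key x y m hm).1 hd⟩
      obtain ⟨h1, h2⟩ := comb_eq_zero hW h
      simp [hub] at h1
      subst h1
      simp [hua] at h2
      simp [h2]
  have hinj : Function.Injective fun c : k => Submodule.span k {T + C c * Q, R} := by
    intro c c' h
    simp only at h
    have hm : T + C c * Q ∈ Submodule.span k {T + C c' * Q, R} := h ▸ Submodule.subset_span (by simp)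
    obtain ⟨x, y, hxy⟩ := mem_span_pair_C.1 hm
    have h1 := congrArg (eval a) hxy
    simp [hR, hQa] at h1
    obtain rfl : x = 1 := mul_right_cancel₀ hTa (by linear_combination h1)
    have h2 : C (c' - c) * Q + C y * R = 0 := by
      simp only [map_one, one_mul] at hxy
      rw [map_sub]; linear_combination hxy
    have h3 : (C (c' - c) + C y * (X - C a) ^ p) * Q = 0 := by rw [← h2, hR]; ring
    have h4 := congrArg (eval a) ((mul_eq_zero.1 h3).resolve_right hQ0)
    simp [zero_pow (show p ≠ 0 by omega), sub_eq_zero] at h4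
    exact h4.symm
  haveI : Infinite k := IsAlgClosed.instInfinite
  exact (Set.infinite_range_of_injective hinj).mono (by rintro _ ⟨c, rfl⟩; exact hmem c)

end Groth.Agent.Lib.RamP1.Flip
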