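import Groth.Agent.Lib.RamP1.Core
import Mathlib.Algebra.MvPolynomial.Equiv
import Mathlib.RingTheory.Localization.FractionRing
import Mathlib.RingTheory.Ideal.Maximal
import Mathlib.Algebra.Polynomial.Taylor
import Mathlib.Data.Set.Finite.Basic
import Mathlib.Algebra.Polynomial.Roots

/-!
# Finiteness of pencils with prescribed ramification at general points
-/

open Polynomial
open W4c1limliniiii
open Groth.Agent.Lib.RamP1.Basic

universe u v

namespace Groth.Agent.Lib.RamP1.Generic

noncomputable section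

variable {k : Type u} [Field k] {n : ℕ}

/-- The variables: points, four polynomials of degree at most `d`, and multipliers. -/
abbrev Var (d n : ℕ) : Type := Fin n ⊕ (Fin 4 × Fin (d + 1)) ⊕ Fin (2 * d + 1)

variable (k) in
abbrev MV (d n : ℕ) := MvPolynomial (Var d n) k

variable (d : ℕ)

/-- The generic point. -/
def gP (i : Fin n) : MV k d n := MvPolynomial.X (Sum.inl i)

/-- The generic polynomials `F, G, a, b`. -/
def gq (q : Fin 4) : (MV k d n)[X] :=
  ∑ m : Fin (d + 1), monomial (m : ℕ) (MvPolynomial.X (Sum.inr (Sum.inl (q, m))))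

/-- Polynomials of degree at most `d` from coefficients. -/
def ofVec {R : Type v} [CommRing R] (v : Fin (d + 1) → R) : R[X] :=
  ∑ m : Fin (d + 1), monomial (m : ℕ) (v m)

theorem natDegree_ofVec {R : Type v} [CommRing R] (v : Fin (d + 1) → R) : (ofVec d v).natDegree ≤ d :=
  natDegree_sum_le_of_forall_le _ _ fun m _ => (natDegree_monomial_le _).trans (Nat.lt_succ_iff.1 m.2)

theorem coeff_ofVec {R : Type v} [CommRing R] (v : Fin (d + 1) → R) (m : Fin (d + 1)) :
    (ofVec d v).coeff m = v m := by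
  rw [ofVec, finsetSum_coeff, Finset.sum_eq_single m]
  · simp
  · intro b _ hb
    rw [coeff_monomial, if_neg (fun h => hb (Fin.ext h))]
  · simp

theorem ofVec_coeff {R : Type v} [CommRing R] {p : R[X]} (hp : p.natDegree ≤ d) :
    ofVec d (fun m : Fin (d + 1) => p.coeff m) = p := by
  conv_rhs => rw [p.as_sum_range' (d + 1) (Nat.lt_succ_of_le hp)]
  exact Fin.sum_univ_eq_sum_range (fun i => monomial i (p.coeff i)) (d + 1)

theorem map_gq {R : Type v} [CommRing R] (φ : MV k d n →+* R) (q : Fin 4) :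
    (gq (k := k) (n := n) d q).map φ = ofVec d fun m => φ (MvPolynomial.X (Sum.inr (Sum.inl (q, m)))) := by
  simp [gq, ofVec, Polynomial.map_sum, Polynomial.map_monomial]

variable (e : Fin n → ℕ) (g : ℕ)

/-- The member through the `i`-th point. -/
def member {R : Type v} [CommRing R] (P : Fin n → R) (F G : R[X]) (i : Fin n) : R[X] :=
  C (G.eval (P i)) * F - C (F.eval (P i)) * G

theorem map_member {R S : Type v} [CommRing R] [CommRing S] (φ : R →+* S) (P : Fin n → R) (F G : R[X])
    (i : Fin n) :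
    (member P F G i).map φ = member (fun i => φ (P i)) (F.map φ) (G.map φ) i := by
  simp [member, Polynomial.map_sub, Polynomial.map_mul, eval_map, eval₂_at_apply]

/-- The equations. -/
inductive Eqn : MV k d n → Prop
  | bezout (j : ℕ) : Eqn ((gq d 2 * gq d 0 + gq d 3 * gq d 1 - 1).coeff j)
  | Fd : Eqn ((gq d 0).coeff d - 1)
  | Fg : Eqn ((gq d 0).coeff g)
  | Gd : Eqn ((gq d 1).coeff d)
  | Gg : Eqn ((gq d 1).coeff g - 1)
  | wr : Eqn ((∑ m : Fin (2 * d + 1),
      MvPolynomial.X (Sum.inr (Sum.inr m)) * (wronskian (gq d 0) (gq d 1)).coeff m) - 1)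
  | ram (i : Fin n) (j : ℕ) (hj : j < e i) :
      Eqn ((taylor (gP d i) (member (gP d) (gq d 0) (gq d 1) i)).coeff j)

/-- The extra equation: two points lie in the same fibre. -/
def sameFibre (i j : Fin n) : MV k d n :=
  (gq d 1).eval (gP d i) * (gq d 0).eval (gP d j) - (gq d 0).eval (gP d i) * (gq d 1).eval (gP d j)

variable {d e g}

theorem pow_dvd_iff_taylor {R : Type v} [CommRing R] (a : R) (m : ℕ) (q : R[X]) :
    (X - C a) ^ m ∣ q ↔ ∀ j < m, (taylor a q).coeff j = 0 := by
  rw [X_sub_C_pow_dvd_iff, X_pow_dvd_iff, taylor_apply]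

theorem kills_iff {R : Type u} [CommRing R] (φ : MV k d n →+* R) :
    let P := fun i => φ (gP d i)
    let F := (gq (k := k) (n := n) d 0).map φ
    let G := (gq (k := k) (n := n) d 1).map φ
    (∀ q, Eqn d e g q → φ q = 0) ↔
      ((gq (k := k) (n := n) d 2).map φ * F + (gq (k := k) (n := n) d 3).map φ * G = 1 ∧
        F.coeff d = 1 ∧ F.coeff g = 0 ∧ G.coeff d = 0 ∧ G.coeff g = 1 ∧
        (∑ m : Fin (2 * d + 1), φ (MvPolynomial.X (Sum.inr (Sum.inr m))) * (wronskian F G).coeff m) = 1 ∧
        ∀ i, (X - C (P i)) ^ e i ∣ member P F G i) := by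
  intro P F G
  have hw : ∀ m, φ ((wronskian (gq d 0) (gq d 1)).coeff m) = (wronskian F G).coeff m := fun m => by
    rw [← coeff_map]
    simp [wronskian, F, G, derivative_map]
  have hr : ∀ i j, φ ((taylor (gP d i) (member (gP d) (gq d 0) (gq d 1) i)).coeff j) =
      (taylor (P i) (member P F G i)).coeff j := fun i j => by
    rw [← coeff_map, taylor_apply, taylor_apply, Polynomial.map_comp, map_member]
    simp [P, F, G]
  constructor
  · intro h
    refine ⟨?_, ?_, ?_, ?_, ?_, ?_, fun i => (pow_dvd_iff_taylor _ _ _).2 fun j hj => ?_⟩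
    · refine Polynomial.ext fun j => ?_
      have := h _ (.bezout j)
      rw [← coeff_map] at this
      simp only [Polynomial.map_sub, Polynomial.map_add, Polynomial.map_mul, Polynomial.map_one,
        coeff_sub, sub_eq_zero] at this
      exact this
    · have := h _ .Fd; rwa [map_sub, map_one, sub_eq_zero, ← coeff_map] at this
    · have := h _ .Fg; rwa [← coeff_map] at this
    · have := h _ .Gd; rwa [← coeff_map] at this
    · have := h _ .Gg; rwa [map_sub, map_one, sub_eq_zero, ← coeff_map] at this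
    · have := h _ .wr; simpa [sub_eq_zero, hw] using this
    · rw [← hr]; exact h _ (.ram i j hj)
  · rintro ⟨hb, h1, h2, h3, h4, h5, h6⟩ q hq
    cases hq with
    | bezout j =>
      rw [← coeff_map]
      simp only [Polynomial.map_sub, Polynomial.map_add, Polynomial.map_mul, Polynomial.map_one]
      rw [hb]; simp
    | Fd => rw [map_sub, map_one, ← coeff_map, h1, sub_self]
    | Fg => rw [← coeff_map, h2]
    | Gd => rw [← coeff_map, h3]
    | Gg => rw [map_sub, map_one, ← coeff_map, h4, sub_self]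
    | wr => simp [hw, h5]
    | ram i j hj => rw [hr]; exact (pow_dvd_iff_taylor _ _ _).1 (h6 i) j hj

variable (k d e g) in
/-- The ideal of the equations and a set of extra ones. -/
def eqIdeal (extra : Set (MV k d n)) : Ideal (MV k d n) :=
  Ideal.span ({q | Eqn d e g q} ∪ extra)

/-- Points given by actual pencils. -/
theorem exists_hom [IsAlgClosed k] {p : ℕ} (he : Admissible p d e) {P : Fin n → k} {V : Submodule k k[X]}
    (hV : V ∈ ramMaps d P e) :
    ∃ g < d, ∃ F G : k[X], F.natDegree ≤ d ∧ G.natDegree ≤ d ∧ V = Submodule.span k {F, G} ∧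
      ∃ a : Var d n → k, (∀ q, Eqn d e g q → MvPolynomial.eval a q = 0) ∧
        (fun i => a (Sum.inl i)) = P ∧
        (∀ m, a (Sum.inr (Sum.inl (0, m))) = F.coeff m) ∧ (∀ m, a (Sum.inr (Sum.inl (1, m))) = G.coeff m) ∧
        ∀ i j, i ≠ j → (∃ s ∈ V, s ≠ 0 ∧ s.IsRoot (P i) ∧ s.IsRoot (P j)) →
          MvPolynomial.eval a (sameFibre d i j) = 0 := by
  classical
  obtain ⟨hP, hsep, hram⟩ := hV
  obtain ⟨g, F, G, hN, rfl⟩ := exists_normal hP
  have hc := isCoprime_of_pencil hN hP
  have hF0 : F ≠ 0 := fun h => by have := hN.Fd; simp [h] at this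
  obtain ⟨x, y, hxy⟩ := hc
  let y' := y % F
  let x' := x + y / F * G
  have hxy' : x' * F + y' * G = 1 := by
    have h := EuclideanDomain.div_add_mod y F
    simp only [x', y']
    linear_combination hxy + G * h
  have hy' : y'.natDegree ≤ d := by
    have := hN.g_lt
    rcases eq_or_ne y' 0 with h | h
    · simp [h]
    · exact (natDegree_le_natDegree (degree_mod_lt y hF0).le).trans hN.degF
  have hx' : x'.natDegree ≤ d := by
    rcases eq_or_ne x' 0 with h | h
    · simp [h]
    · have h1 : x' * F = 1 - y' * G := by linear_combination hxy'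
      have h2 := congrArg natDegree h1
      rw [natDegree_mul h hF0, hN.natDegreeF] at h2
      have h3 : (1 - y' * G).natDegree ≤ d + d :=
        (natDegree_sub_le _ _).trans (max_le (by simp) (natDegree_mul_le.trans (Nat.add_le_add hy' hN.degG)))
      omega
  have hw := wronskian_ne_zero hsep
  obtain ⟨m0, hm0⟩ : ∃ m : Fin (2 * d + 1), (wronskian F G).coeff m ≠ 0 := by
    refine ⟨⟨(wronskian F G).natDegree, ?_⟩, leadingCoeff_ne_zero.2 hw⟩
    have := natDegree_wronskian_le (by have := hN.g_lt; omega) hN.degF hN.degG'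
    omega
  let a : Var d n → k := Sum.elim P (Sum.elim
    (fun qm => (![F, G, x', y'] qm.1).coeff qm.2)
    (fun m => if m = m0 then ((wronskian F G).coeff m0)⁻¹ else 0))
  have hdeg : ∀ q, (![F, G, x', y'] q).natDegree ≤ d := by
    intro q; fin_cases q
    exacts [hN.degF, hN.degG, hx', hy']
  have hq : ∀ q, (gq (k := k) (n := n) d q).map (MvPolynomial.eval a) = ![F, G, x', y'] q := fun q => by
    rw [map_gq]
    simp only [MvPolynomial.eval_X, a, Sum.elim_inr, Sum.elim_inl]
    exact ofVec_coeff d (hdeg q)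
  have hPa : (fun i => MvPolynomial.eval a (gP (k := k) d i)) = P := funext fun i => by simp [gP, a]
  refine ⟨g, hN.g_lt, F, G, hN.degF, hN.degG, rfl, a, ?_, rfl, fun m => rfl, fun m => rfl, ?_⟩
  · refine (kills_iff (MvPolynomial.eval a)).2 ?_
    rw [hq, hq, hq, hq, hPa]
    simp only [Matrix.cons_val_zero, Matrix.cons_val_one, Matrix.cons_val]
    refine ⟨hxy', hN.Fd, hN.Fg, hN.Gd, hN.Gg, ?_, fun i => ?_⟩
    · rw [Finset.sum_eq_single m0]
      · simp [a, inv_mul_cancel₀ hm0]
      · intro m _ hm; simp [a, hm]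
      · simp
    · exact dvd_member ⟨x', y', hxy'⟩ (one_le_two.trans (he.1 i).1) (hram i).1
  · rintro i j - ⟨s, hs, hs0, hi, hj⟩
    obtain ⟨u, w, rfl⟩ := mem_span_pair_C.1 hs
    simp only [IsRoot.def, eval_add, eval_mul, eval_C] at hi hj
    have e1 : ∀ q, ∀ l, MvPolynomial.eval a ((gq (k := k) (n := n) d q).eval (gP d l)) =
        (![F, G, x', y'] q).eval (P l) := fun q l => by
      rw [← eval₂_at_apply, ← eval_map, hq, ← hPa]
    simp only [sameFibre, map_sub, map_mul, e1]
    simp only [Matrix.cons_val_zero, Matrix.cons_val_one]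
    by_cases hu : u = 0
    · subst hu
      have hw' : w ≠ 0 := by rintro rfl; simp at hs0
      simp [hw'] at hi hj
      simp [hi, hj]
    · have e2 : u * (G.eval (P i) * F.eval (P j) - F.eval (P i) * G.eval (P j)) = 0 := by
        linear_combination G.eval (P i) * hj - G.eval (P j) * hi
      exact (mul_eq_zero.1 e2).resolve_left hu

/-- The key: no algebraically independent family of size more than `n` on the space of pencils. -/
theorem not_injective [IsAlgClosed k] {p : ℕ} [CharP k p] (he : Admissible p d e) (hg : g < d)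
    {extra : Set (MV k d n)} {m : ℕ} (a : Fin m → MV k d n) (ι : Fin n ↪ Fin m)
    (hι : ∀ i, a (ι i) = gP d i)
    (hcoord : ∀ l, ∃ v : Var d n, (v ∈ Set.range Sum.inl ∪ Set.range fun qm : Fin 2 × Fin (d + 1) =>
      Sum.inr (Sum.inl (Fin.castLE (by omega) qm.1, qm.2))) ∧ a l = MvPolynomial.X v)
    (hbig : n < m ∨ (m = n ∧ ∃ i j : Fin n, i ≠ j ∧ sameFibre d i j ∈ extra)) :
    ∃ Φ : MvPolynomial (Fin m) k, Φ ≠ 0 ∧ MvPolynomial.aeval a Φ ∈ eqIdeal k d e g extra := by
  classical
  by_contra! hcon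
  let I := eqIdeal k d e g extra
  let S : Submonoid (MV k d n) :=
    (nonZeroDivisors (MvPolynomial (Fin m) k)).map (MvPolynomial.aeval a)
  have hdisj : Disjoint (I : Set (MV k d n)) (S : Set (MV k d n)) := by
    rw [Set.disjoint_left]
    rintro q hq ⟨Φ, hΦ, rfl⟩
    exact hcon Φ (nonZeroDivisors.ne_zero hΦ) hq
  obtain ⟨Q, hQ, hIQ, hQS⟩ := Ideal.exists_le_prime_disjoint I S hdisj
  let L0 := FractionRing (MV k d n ⧸ Q)
  let φ : MV k d n →ₐ[k] L0 :=
    (IsScalarTower.toAlgHom k (MV k d n ⧸ Q) L0).comp (Ideal.Quotient.mkₐ k Q)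
  have hφ0 : ∀ q, φ q = 0 ↔ q ∈ Q := fun q => by
    simp only [φ, AlgHom.comp_apply, IsScalarTower.coe_toAlgHom', Ideal.Quotient.mkₐ_eq_mk]
    rw [map_eq_zero_iff _ (IsFractionRing.injective (MV k d n ⧸ Q) L0), Ideal.Quotient.eq_zero_iff_mem]
  have hind : AlgebraicIndependent k (fun l => φ (a l)) := by
    rw [algebraicIndependent_iff_injective_aeval]
    refine (injective_iff_map_eq_zero _).2 fun Φ hΦ => ?_
    by_contra hne
    rw [← MvPolynomial.comp_aeval_apply] at hΦ
    exact Set.disjoint_left.1 hQS ((hφ0 _).1 hΦ) ⟨Φ, mem_nonZeroDivisors_of_ne_zero hne, rfl⟩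
  let good : Set (Var d n) := Set.range Sum.inl ∪ Set.range fun qm : Fin 2 × Fin (d + 1) =>
      Sum.inr (Sum.inl (Fin.castLE (by omega) qm.1, qm.2))
  let x : Var d n → L0 := fun v => φ (MvPolynomial.X v)
  let L := IntermediateField.adjoin k (x '' good)
  have hmem : ∀ v ∈ good, x v ∈ L := fun v hv => IntermediateField.subset_adjoin k _ ⟨v, hv, rfl⟩
  let P : Fin n → L := fun i => ⟨x (Sum.inl i), hmem _ (Or.inl ⟨i, rfl⟩)⟩
  let co : Fin 2 → L[X] := fun q => ofVec d fun m => ⟨x (Sum.inr (Sum.inl (Fin.castLE (by omega) q, m))),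
    hmem _ (Or.inr ⟨(q, m), rfl⟩)⟩
  have hco : ∀ q : Fin 2, (co q).map L.val.toRingHom =
      (gq (k := k) (n := n) d (Fin.castLE (by omega) q)).map φ.toRingHom := fun q => by
    rw [map_gq]
    simp [co, ofVec, Polynomial.map_sum, x]
  obtain ⟨hb, hFd, hFg, hGd, hGg, hw, hram⟩ := (kills_iff φ.toRingHom).1 fun q hq =>
    (hφ0 q).2 (hIQ (Ideal.subset_span (Or.inl hq)))
  have h0 : (gq (k := k) (n := n) d 0).map φ.toRingHom = (co 0).map L.val.toRingHom := (hco 0).symm
  have h1 : (gq (k := k) (n := n) d 1).map φ.toRingHom = (co 1).map L.val.toRingHom := (hco 1).symm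
  have hPv : (fun i => φ.toRingHom (gP d i)) = fun i => L.val.toRingHom (P i) := rfl
  rw [h0, h1] at hb hw
  rw [h0] at hFd hFg
  rw [h1] at hGd hGg
  rw [coeff_map] at hFd hFg hGd hGg
  have hinjL : Function.Injective L.val.toRingHom := L.val.toRingHom.injective
  have hPinj : Function.Injective P := by
    intro i j hij
    have h := hind.injective (a₁ := ι i) (a₂ := ι j) (by
      simp only [hι]; exact congrArg Subtype.val hij)
    exact ι.injective h
  have hd : Core.Data d g e P (co 0) (co 1) :=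
    { inj := hPinj
      two_le := fun i => (he.1 i).1
      sum_eq := sum_sub_one he
      normal := ⟨hg, natDegree_ofVec d _, natDegree_ofVec d _, hinjL (by rw [hFd, map_one]),
        hinjL (by rw [hFg, map_zero]), hinjL (by rw [hGd, map_zero]), hinjL (by rw [hGg, map_one])⟩
      coprime := (isCoprime_map L.val.toRingHom).1 ⟨_, _, hb⟩
      wronskian_ne := fun h => by
        rw [show wronskian ((co 0).map L.val.toRingHom) ((co 1).map L.val.toRingHom) =
          (wronskian (co 0) (co 1)).map L.val.toRingHom by simp [wronskian, derivative_map], h] at hw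
        simp at hw
      dvd := fun i => by
        refine (map_dvd_map L.val.toRingHom hinjL ((monic_X_sub_C _).pow _)).1 ?_
        have h := hram i
        rw [h0, h1, hPv] at h
        rw [Polynomial.map_pow, Polynomial.map_sub, map_X, map_C]
        refine h.trans (dvd_of_eq ?_)
        rw [← map_member]
        rfl }
  have hp : ∀ i, (e i : L) ≠ 0 := fun i h => (he.1 i).2.2 <| by
    have hkk : (e i : k) = 0 := (algebraMap k L).injective (by rw [map_natCast, h, map_zero])
    exact (CharP.cast_eq_zero_iff k p _).1 hkk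
  have hgen : IntermediateField.adjoin k (Set.range P ∪ Set.range (co 0).coeff ∪ Set.range (co 1).coeff) = ⊤ := by
    refine IntermediateField.map_injective L.val ?_
    rw [IntermediateField.adjoin_map, ← AlgHom.fieldRange_eq_map, IntermediateField.fieldRange_val]
    refine le_antisymm (IntermediateField.adjoin_le_iff.2 ?_) (IntermediateField.adjoin_le_iff.2 ?_)
    · rintro _ ⟨y, -, rfl⟩
      exact y.2
    · rintro _ ⟨v, hv, rfl⟩
      refine IntermediateField.subset_adjoin k _ ?_
      rcases hv with ⟨i, rfl⟩ | ⟨⟨q, m⟩, rfl⟩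
      · exact ⟨P i, Or.inl (Or.inl ⟨i, rfl⟩), rfl⟩
      · fin_cases q
        · exact ⟨(co 0).coeff m, Or.inl (Or.inr ⟨m, rfl⟩), congrArg L.val (coeff_ofVec d _ m)⟩
        · exact ⟨(co 1).coeff m, Or.inr ⟨m, rfl⟩, congrArg L.val (coeff_ofVec d _ m)⟩
  have : Algebra.EssFiniteType k L :=
    IntermediateField.essFiniteType_iff.2 (IntermediateField.fg_adjoin_of_finite
      ((Set.toFinite _).image _))
  choose v hv hav using hcoord
  let y : Fin m → L := fun l => ⟨x (v l), hmem _ (hv l)⟩
  have hy : AlgebraicIndependent k y := by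
    refine AlgebraicIndependent.of_comp L.val ?_
    convert hind using 1
    funext l
    simp [y, x, hav]
  rcases hbig with h | ⟨rfl, i, j, hij, hex⟩
  · have := Core.card_le_n hd hp hgen hy
    omega
  · refine lt_irrefl m (Core.card_lt_n hd hp hgen hy hij (hinjL ?_))
    have h := (hφ0 _).2 (hIQ (Ideal.subset_span (Or.inr hex)))
    change φ.toRingHom (sameFibre d i j) = 0 at h
    rw [sameFibre, map_sub, map_mul, map_mul, sub_eq_zero] at h
    simp only [← eval₂_at_apply, ← eval_map, h0, h1] at h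
    simp only [map_mul, ← eval₂_at_apply, ← eval_map]
    exact h

theorem eval_mem_eq_zero {extra : Set (MV k d n)} {a : Var d n → k} {q : MV k d n}
    (hq : q ∈ eqIdeal k d e g extra) (h1 : ∀ q, Eqn d e g q → MvPolynomial.eval a q = 0)
    (h2 : ∀ q ∈ extra, MvPolynomial.eval a q = 0) : MvPolynomial.eval a q = 0 := by
  have : eqIdeal k d e g extra ≤ RingHom.ker (MvPolynomial.eval a) :=
    Ideal.span_le.2 fun r hr => hr.elim (h1 r) (h2 r)
  exact this hq

theorem eval_aeval {m : ℕ} (a : Var d n → k) (f : Fin m → MV k d n) (Φ : MvPolynomial (Fin m) k) :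
    MvPolynomial.eval a (MvPolynomial.aeval f Φ) = MvPolynomial.eval (fun l => MvPolynomial.eval a (f l)) Φ := by
  induction Φ using MvPolynomial.induction_on <;> simp_all

theorem finite_and_separate [IsAlgClosed k] {p : ℕ} [CharP k p] (d : ℕ) (e : Fin n → ℕ)
    (he : Admissible p d e) :
    ∃ Φ : MvPolynomial (Fin n) k, Φ ≠ 0 ∧ ∀ P : Fin n → k, MvPolynomial.eval P Φ ≠ 0 →
      (ramMaps d P e).Finite ∧
        ∀ V ∈ ramMaps d P e, ∀ i j : Fin n, i ≠ j →
          ∀ s ∈ V, (s.IsRoot (P i) ∧ s.IsRoot (P j)) → s = 0 := by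
  classical
  -- algebraicity of the coordinates
  have halg : ∀ (g : Fin d) (qm : Fin 2 × Fin (d + 1)), ∃ Q : Polynomial (MvPolynomial (Fin n) k),
      Q ≠ 0 ∧ ∀ a : Var d n → k, (∀ q, Eqn d e g q → MvPolynomial.eval a q = 0) →
        (Q.map (MvPolynomial.eval fun i => a (Sum.inl i))).eval
          (a (Sum.inr (Sum.inl (Fin.castLE (by omega) qm.1, qm.2)))) = 0 := by
    intro g qm
    let a' : Fin (n + 1) → MV k d n := Fin.cons
      (MvPolynomial.X (Sum.inr (Sum.inl (Fin.castLE (by omega) qm.1, qm.2)))) (gP d)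
    obtain ⟨Φ, hΦ0, hΦ⟩ := not_injective (extra := ∅) he g.2 a' ⟨Fin.succ, Fin.succ_injective n⟩
      (fun i => by simp [a']) (fun l => by
        cases l using Fin.cases with
        | zero => exact ⟨_, Or.inr ⟨qm, rfl⟩, rfl⟩
        | succ i => exact ⟨Sum.inl i, Or.inl ⟨i, rfl⟩, by simp [a', gP]⟩) (Or.inl n.lt_succ_self)
    refine ⟨MvPolynomial.finSuccEquiv k n Φ, by simpa using hΦ0, fun a ha => ?_⟩
    have h := eval_mem_eq_zero hΦ ha (fun q hq => absurd hq (Set.notMem_empty q))
    rw [← MvPolynomial.eval_eq_eval_mv_eval']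
    rw [eval_aeval] at h
    refine Eq.trans (congrArg (fun w => MvPolynomial.eval w Φ) ?_) h
    funext l
    cases l using Fin.cases <;> simp [a', gP]
  choose Q hQ0 hQ using halg
  -- separation
  have hsep : ∀ (g : Fin d) (ij : {ij : Fin n × Fin n // ij.1 ≠ ij.2}),
      ∃ Φ : MvPolynomial (Fin n) k, Φ ≠ 0 ∧ ∀ a : Var d n → k,
        (∀ q, Eqn d e g q → MvPolynomial.eval a q = 0) →
          MvPolynomial.eval a (sameFibre d ij.1.1 ij.1.2) = 0 →
            MvPolynomial.eval (fun i => a (Sum.inl i)) Φ = 0 := by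
    intro g ij
    obtain ⟨Φ, hΦ0, hΦ⟩ := not_injective (extra := {sameFibre (k := k) d ij.1.1 ij.1.2}) he g.2 (gP (k := k) (n := n) d)
      (Function.Embedding.refl _) (fun i => rfl) (fun i => ⟨Sum.inl i, Or.inl ⟨i, rfl⟩, rfl⟩)
      (Or.inr ⟨rfl, _, _, ij.2, Set.mem_singleton _⟩)
    refine ⟨Φ, hΦ0, fun a ha hs => ?_⟩
    have h := eval_mem_eq_zero hΦ ha (fun q hq => by rw [Set.mem_singleton_iff.1 hq, hs])
    rw [eval_aeval] at h
    refine Eq.trans (congrArg (fun w => MvPolynomial.eval w Φ) ?_) h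
    funext l
    simp [gP]
  choose Φ hΦ0 hΦ using hsep
  refine ⟨(∏ g : Fin d, ∏ qm, (Q g qm).leadingCoeff) * ∏ g : Fin d, ∏ ij, Φ g ij, ?_, fun P hP => ?_⟩
  · refine mul_ne_zero ?_ ?_ <;> refine Finset.prod_ne_zero_iff.2 fun g _ => Finset.prod_ne_zero_iff.2
      fun x _ => ?_
    · exact leadingCoeff_ne_zero.2 (hQ0 g x)
    · exact hΦ0 g x
  simp only [map_mul, map_prod, mul_ne_zero_iff, Finset.prod_ne_zero_iff] at hP
  refine ⟨?_, fun V hV i j hij s hs hroot => ?_⟩
  · have hne : ∀ g qm, (Q g qm).map (MvPolynomial.eval P) ≠ 0 := fun g qm h => by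
      have h1 := congrArg (fun r => r.coeff (Q g qm).natDegree) h
      rw [coeff_map, coeff_zero] at h1
      exact hP.1 g (Finset.mem_univ _) qm (Finset.mem_univ _) h1
    let cand : Fin d → Set (Fin 2 × Fin (d + 1) → k) := fun g =>
      Set.pi Set.univ fun qm => {c | ((Q g qm).map (MvPolynomial.eval P)).IsRoot c}
    have hcand : ∀ g, (cand g).Finite := fun g => Set.Finite.pi fun qm => finite_setOfPred_isRoot (hne g qm)
    refine ((Set.finite_iUnion hcand).image fun c => Submodule.span k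
      ({ofVec d (fun m => c (0, m)), ofVec d (fun m => c (1, m))} : Set k[X])).subset ?_
    intro V hV
    obtain ⟨g, hg, F, G, hF, hG, rfl, a, ha, rfl, haF, haG, -⟩ := exists_hom he hV
    refine ⟨fun qm => a (Sum.inr (Sum.inl (Fin.castLE (by omega) qm.1, qm.2))),
      Set.mem_iUnion.2 ⟨⟨g, hg⟩, fun qm _ => hQ ⟨g, hg⟩ qm a ha⟩, ?_⟩
    have e0 : (fun m : Fin (d + 1) => a (Sum.inr (Sum.inl (Fin.castLE (by omega : 2 ≤ 4) (0 : Fin 2), m)))) =
        fun m : Fin (d + 1) => F.coeff m := funext haF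
    have e1 : (fun m : Fin (d + 1) => a (Sum.inr (Sum.inl (Fin.castLE (by omega : 2 ≤ 4) (1 : Fin 2), m)))) =
        fun m : Fin (d + 1) => G.coeff m := funext haG
    simp only [e0, e1, ofVec_coeff d hF, ofVec_coeff d hG]
  · by_contra hs0
    obtain ⟨g, hg, F, G, -, -, -, a, ha, rfl, -, -, hfib⟩ := exists_hom he hV
    exact hP.2 ⟨g, hg⟩ (Finset.mem_univ _) ⟨(i, j), hij⟩ (Finset.mem_univ _)
      (hΦ ⟨g, hg⟩ ⟨(i, j), hij⟩ a ha (hfib i j hij ⟨s, hs, hs0, hroot.1, hroot.2⟩))

end

end Groth.Agent.Lib.RamP1.Generic
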