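import Groth.Agent.Lib.RamP1.Proper
import Mathlib.RingTheory.Polynomial.Basic
import Mathlib.LinearAlgebra.FiniteDimensional.Lemmas

/-!
# Pencils with three ramification points, and local criteria
-/

open Polynomial
open W4c1limliniiii
open Groth.Agent.Lib.RamP1.Basic

universe u

namespace Groth.Agent.Lib.RamP1.Three

noncomputable section

variable {k : Type u} [Field k] {n : ℕ}

theorem exists_pair {V : Submodule k k[X]} (h : Module.finrank k V = 2) :
    ∃ s t, V = Submodule.span k {s, t} ∧ ∀ a b : k, C a * s + C b * t = 0 → a = 0 ∧ b = 0 := by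
  have : FiniteDimensional k V := FiniteDimensional.of_finrank_pos (by omega)
  let B := Module.finBasisOfFinrankEq k V h
  refine ⟨B 0, B 1, le_antisymm (fun v hv => ?_) (Submodule.span_le.2 ?_), fun a b hab => ?_⟩
  · refine mem_span_pair_C.2 ⟨B.repr ⟨v, hv⟩ 0, B.repr ⟨v, hv⟩ 1, ?_⟩
    have := congrArg Subtype.val (B.sum_repr ⟨v, hv⟩)
    rw [Fin.sum_univ_two] at this
    simpa [smul_eq_C_mul] using this
  · rintro _ (rfl | rfl) <;> exact (B _).2
  · have h2 := Fintype.linearIndependent_iff.1 B.linearIndependent ![a, b] (Subtype.ext (by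
      simpa [Fin.sum_univ_two, smul_eq_C_mul] using hab))
    exact ⟨h2 0, h2 1⟩

theorem natDegree_le_of_mem {d : ℕ} {V : Submodule k k[X]} (hV : V ≤ degreeLE k d) {s : k[X]}
    (hs : s ∈ V) : s.natDegree ≤ d :=
  natDegree_le_iff_degree_le.2 (mem_degreeLE.1 (hV hs))

theorem pow_dvd_wronskian_of_member {a : k} {m : ℕ} {s t : k[X]} {x y : k} (hxy : x ≠ 0 ∨ y ≠ 0)
    (h : (X - C a) ^ m ∣ C x * s + C y * t) : (X - C a) ^ (m - 1) ∣ wronskian s t := by
  by_cases hx : x = 0
  · have hy : y ≠ 0 := hxy.resolve_left (fun h => h hx)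
    rw [hx, map_zero, zero_mul, zero_add, (isUnit_C.2 (isUnit_iff_ne_zero.2 hy)).dvd_mul_left] at h
    rw [← wronskian_neg_eq, dvd_neg]
    exact pow_dvd_wronskian h _
  · have h2 := pow_dvd_wronskian h t
    rw [show wronskian (C x * s + C y * t) t = C x * wronskian s t by
      simp only [wronskian, derivative_add, derivative_C_mul]; ring] at h2
    exact (isUnit_C.2 (isUnit_iff_ne_zero.2 hx)).dvd_mul_left.1 h2

theorem natDegree_wronskian_le' {m : ℕ} {s t : k[X]} (hs : s.natDegree ≤ m) (ht : t.natDegree ≤ m) :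
    (wronskian s t).natDegree ≤ 2 * m - 2 := by
  by_cases hw : wronskian s t = 0
  · simp [hw]
  by_cases hm : s.natDegree < m
  · rw [← wronskian_neg_eq, natDegree_neg]
    exact natDegree_wronskian_le (by omega) ht (by omega)
  have hsm : s.natDegree = m := le_antisymm hs (not_lt.1 hm)
  let c := t.coeff m / s.coeff m
  have hw' : wronskian s (t - C c * s) = wronskian s t := by
    simp only [wronskian, derivative_sub, derivative_C_mul]; ring
  have hs0 : s.coeff m ≠ 0 := by
    rw [← hsm]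
    exact leadingCoeff_ne_zero.2 fun h => hw (by rw [h, wronskian_zero_left])
  rw [← hw'] at hw ⊢
  rcases Nat.eq_zero_or_pos m with rfl | hm0
  · exact absurd (natDegree_wronskian_lt_add hw) (by
      have : (t - C c * s).natDegree ≤ 0 := (natDegree_sub_le _ _).trans (max_le ht ((natDegree_C_mul_le _ _).trans hs))
      omega)
  refine natDegree_wronskian_le (d := m) hm0 hs (natDegree_le_iff_coeff_eq_zero.2 fun j hj => ?_)
  rcases eq_or_ne j m with rfl | hne
  · simp [c, div_mul_cancel₀ _ hs0]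
  · rw [coeff_sub, coeff_C_mul, coeff_eq_zero_of_natDegree_lt (lt_of_le_of_lt ht (by omega)),
      coeff_eq_zero_of_natDegree_lt (lt_of_le_of_lt hs (by omega)), mul_zero, sub_zero]

/-- A separable pencil with at least the prescribed ramification, which saturates the Riemann-Hurwitz
count, is a map with exactly this ramification. -/
theorem mem_ramMaps {d : ℕ} (hd : 1 ≤ d) {P : Fin n → k} (hP : Function.Injective P) {e : Fin n → ℕ}
    (h2 : ∀ i, 2 ≤ e i) (hsum : ∑ i, (e i - 1) = 2 * d - 2) {V : Submodule k k[X]}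
    (hle : V ≤ degreeLE k d) (hrk : Module.finrank k V = 2) (hsep : IsSeparable V)
    (hmem : ∀ i, ∃ s ∈ V, s ≠ 0 ∧ e i ≤ s.rootMultiplicity (P i)) : V ∈ ramMaps d P e := by
  classical
  obtain ⟨s, t, rfl, hind⟩ := exists_pair hrk
  have hw : wronskian s t ≠ 0 := Basic.wronskian_ne_zero hsep
  have hs : s.natDegree ≤ d := natDegree_le_of_mem hle (Submodule.subset_span (Set.mem_insert _ _))
  have ht : t.natDegree ≤ d := natDegree_le_of_mem hle (Submodule.subset_span (by simp))
  have hWd := natDegree_wronskian_le' hs ht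
  have hmem' : ∀ i, ∃ x y : k, (x ≠ 0 ∨ y ≠ 0) ∧ (X - C (P i)) ^ e i ∣ C x * s + C y * t := by
    intro i
    obtain ⟨u, hu, hu0, hue⟩ := hmem i
    obtain ⟨x, y, rfl⟩ := mem_span_pair_C.1 hu
    refine ⟨x, y, ?_, (le_rootMultiplicity_iff hu0).1 hue⟩
    by_contra! h
    exact hu0 (by rw [h.1, h.2]; simp)
  have hW0 : W0 P e ∣ wronskian s t := W0_dvd hP fun i => by
    obtain ⟨x, y, hxy, h⟩ := hmem' i
    exact pow_dvd_wronskian_of_member hxy h
  refine ⟨⟨hle, hrk, ?_, fun a => ?_⟩, hsep, fun i => ⟨hmem i, fun u hu hu0 => ?_⟩⟩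
  · by_contra! h
    have h3 := natDegree_wronskian_lt_add hw
    have h4 := natDegree_le_of_dvd hW0 hw
    rw [natDegree_W0, hsum] at h4
    have h5 := h s (Submodule.subset_span (Set.mem_insert _ _))
    have h6 := h t (Submodule.subset_span (by simp))
    omega
  · by_contra! h
    obtain ⟨A, hA⟩ := (dvd_iff_isRoot (a := a)).2 (h s (Submodule.subset_span (Set.mem_insert _ _)))
    obtain ⟨B, hB⟩ := (dvd_iff_isRoot (a := a)).2 (h t (Submodule.subset_span (by simp)))
    have hWAB : wronskian s t = (X - C a) ^ 2 * wronskian A B := by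
      simp only [hA, hB, wronskian, derivative_mul, derivative_sub, derivative_X, derivative_C]; ring
    have hw' : wronskian A B ≠ 0 := fun h0 => hw (by rw [hWAB, h0, mul_zero])
    have hAd : A.natDegree ≤ d - 1 := by
      rcases eq_or_ne A 0 with h0 | h0
      · simp [h0]
      · rw [hA, natDegree_mul (X_sub_C_ne_zero a) h0, natDegree_X_sub_C] at hs; omega
    have hBd : B.natDegree ≤ d - 1 := by
      rcases eq_or_ne B 0 with h0 | h0
      · simp [h0]
      · rw [hB, natDegree_mul (X_sub_C_ne_zero a) h0, natDegree_X_sub_C] at ht; omega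
    let m : Fin n → ℕ := fun j => if P j = a then e j - 1 else e j
    have hdvd : W0 P m ∣ wronskian A B := W0_dvd hP fun j => by
      obtain ⟨x, y, hxy, hj⟩ := hmem' j
      refine pow_dvd_wronskian_of_member hxy ?_
      rw [hA, hB, show C x * ((X - C a) * A) + C y * ((X - C a) * B) = (X - C a) * (C x * A + C y * B) by ring] at hj
      by_cases hja : P j = a
      · simp only [m, hja, if_true] at hj ⊢
        rw [show e j = (e j - 1) + 1 by have := h2 j; omega, pow_succ', mul_dvd_mul_iff_left (X_sub_C_ne_zero a)] at hj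
        exact hj
      · simp only [m, hja, if_false]
        exact ((isCoprime_X_sub_C_of_isUnit_sub (sub_ne_zero.2 hja).isUnit).pow_left).dvd_of_dvd_mul_left hj
    have h4 := natDegree_le_of_dvd hdvd hw'
    rw [natDegree_W0] at h4
    have h5 := natDegree_wronskian_le' hAd hBd
    have h6 : ∑ j, (e j - 1) ≤ ∑ j, (m j - 1) + 1 := by
      by_cases hex : ∃ j, P j = a
      · obtain ⟨j, hj⟩ := hex
        rw [← Finset.add_sum_erase _ _ (Finset.mem_univ j), ← Finset.add_sum_erase _ _ (Finset.mem_univ j),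
          Finset.sum_congr rfl fun l hl => show m l - 1 = e l - 1 by
            simp only [m]; rw [if_neg fun h' => Finset.ne_of_mem_erase hl (hP (h'.trans hj.symm))]]
        simp only [m, hj, if_true]
        omega
      · push Not at hex
        simp [m, hex]
    rw [hsum] at h6
    rcases Nat.lt_or_ge d 2 with hd2 | hd2
    · have h7 := natDegree_wronskian_lt_add hw'
      omega
    · omega
  · by_contra! hlt
    obtain ⟨x, y, rfl⟩ := mem_span_pair_C.1 hu
    have hxy : x ≠ 0 ∨ y ≠ 0 := by by_contra! h; exact hu0 (by rw [h.1, h.2]; simp)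
    have h1 : W0 P (Function.update e i (e i + 1)) ∣ wronskian s t := W0_dvd hP fun j => by
      rcases eq_or_ne j i with rfl | hne
      · rw [Function.update_self]
        exact pow_dvd_wronskian_of_member hxy ((le_rootMultiplicity_iff hu0).1 hlt)
      · rw [Function.update_of_ne hne]
        exact (Finset.dvd_prod_of_mem (fun l => (X - C (P l)) ^ (e l - 1)) (Finset.mem_univ j)).trans hW0
    have h3 := natDegree_le_of_dvd h1 hw
    rw [natDegree_W0, ← Finset.add_sum_erase _ _ (Finset.mem_univ i), Function.update_self,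
      Finset.sum_congr rfl fun l hl => show Function.update e i (e i + 1) l - 1 = e l - 1 by
        rw [Function.update_of_ne (Finset.ne_of_mem_erase hl)]] at h3
    rw [← Finset.add_sum_erase _ _ (Finset.mem_univ i)] at hsum
    have := h2 i
    omega

theorem dvd_smul' {q a : k[X]} (c : k) (h : q ∣ a) : q ∣ c • a := by
  rw [smul_eq_C_mul]; exact h.mul_left _

/-- The local criterion: the order of the Wronskian determines the ramification index. -/
theorem hasRamIdx_of_wronskian {p : ℕ} [CharP k p] {V : Submodule k k[X]} (hrk : Module.finrank k V = 2)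
    {a : k} (hbp : ∃ s ∈ V, s.eval a ≠ 0) {F G : k[X]} (hF : F ∈ V) (hG : G ∈ V) (hw : wronskian F G ≠ 0)
    {e : ℕ} (he : (wronskian F G).rootMultiplicity a + 1 = e) (hp : p = 0 ∨ e - 1 < p) :
    HasRamIdx V a e ∧ ¬ p ∣ e := by
  obtain ⟨s, t, rfl, hind⟩ := exists_pair hrk
  obtain ⟨t', ht', hta⟩ := hbp
  -- a member vanishing at `a`
  let u := C (t.eval a) * s - C (s.eval a) * t
  have hu : u ∈ Submodule.span k {s, t} := mem_span_pair_C.2 ⟨t.eval a, -(s.eval a), by simp [u, sub_eq_add_neg]⟩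
  have hua : u.eval a = 0 := by simp [u]; ring
  have hu0 : u ≠ 0 := by
    intro h
    have h1 := hind (t.eval a) (-(s.eval a)) (by rw [map_neg, neg_mul, ← sub_eq_add_neg]; exact h)
    obtain ⟨x, y, rfl⟩ := mem_span_pair_C.1 ht'
    exact hta (by simp [h1.1, neg_eq_zero.1 h1.2])
  have hspan : ∀ q ∈ Submodule.span k {s, t}, ∃ x y : k, q = C x * u + C y * t' := by
    obtain ⟨α, β, hαβ⟩ := mem_span_pair_C.1 ht'
    have hdet : α * s.eval a + β * t.eval a ≠ 0 := by
      rw [← hαβ] at hta; simpa using hta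
    intro q hq
    obtain ⟨x, y, rfl⟩ := mem_span_pair_C.1 hq
    refine ⟨(β * x - α * y) / (α * s.eval a + β * t.eval a),
      (x * s.eval a + y * t.eval a) / (α * s.eval a + β * t.eval a), ?_⟩
    have hC : C (α * s.eval a + β * t.eval a) ≠ 0 := C_ne_zero.2 hdet
    apply mul_left_cancel₀ hC
    simp only [mul_add, ← mul_assoc, ← map_mul, mul_div_cancel₀ _ hdet]
    rw [← hαβ]
    simp only [u, map_mul, map_add, map_sub]
    ring
  have hwu : ∃ c : k, c ≠ 0 ∧ wronskian F G = C c * wronskian u t' := by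
    obtain ⟨x, y, rfl⟩ := hspan F hF
    obtain ⟨x', y', rfl⟩ := hspan G hG
    rw [wronskian_comb] at hw ⊢
    exact ⟨_, C_ne_zero.1 (left_ne_zero_of_mul hw), rfl⟩
  obtain ⟨c, hc, hwc⟩ := hwu
  have hwu0 : wronskian u t' ≠ 0 := fun h => hw (by rw [hwc, h, mul_zero])
  have hord : (wronskian u t').rootMultiplicity a + 1 = e := by
    rw [hwc, rootMultiplicity_mul (by rw [← hwc]; exact hw), rootMultiplicity_C, zero_add] at he
    exact he
  let m := u.rootMultiplicity a
  have hm : 0 < m := (rootMultiplicity_pos hu0).2 hua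
  obtain ⟨r, hr⟩ := pow_rootMultiplicity_dvd u a
  have hra : r.eval a ≠ 0 := by
    intro h
    obtain ⟨r', rfl⟩ := (dvd_iff_isRoot (a := a)).2 h
    have := (le_rootMultiplicity_iff hu0 (n := m + 1) (a := a)).2 ⟨r', by rw [pow_succ, mul_assoc]; exact hr⟩
    omega
  obtain ⟨m', hm'⟩ : ∃ m', m = m' + 1 := ⟨m - 1, by omega⟩
  have hW : wronskian u t' =
      (X - C a) ^ m' * ((X - C a) * (r * derivative t' - derivative r * t') - C (m : k) * r * t') := by
    rw [hr, show rootMultiplicity a u = m' + 1 from hm']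
    simp only [wronskian, derivative_mul, derivative_pow, derivative_sub, derivative_X, derivative_C,
      Nat.add_sub_cancel, sub_zero, mul_one]
    rw [show (m : k) = ((m' + 1 : ℕ) : k) by rw [← hm']]
    simp only [map_natCast, Nat.cast_add, Nat.cast_one, map_add, map_one]
    ring
  have hmain : (m : k) ≠ 0 ∧ m = e := by
    by_cases hmk : (m : k) = 0
    · exfalso
      have hdvd : (X - C a) ^ m ∣ wronskian u t' := by
        rw [hW, hmk, map_zero, zero_mul, zero_mul, sub_zero, hm', pow_succ]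
        exact mul_dvd_mul dvd_rfl (dvd_mul_right _ _)
      have h1 := (le_rootMultiplicity_iff hwu0).2 hdvd
      have hpm : p ∣ m := (CharP.cast_eq_zero_iff k p m).1 hmk
      rcases hp with rfl | hlt
      · have := zero_dvd_iff.1 hpm; omega
      · have := Nat.le_of_dvd hm hpm; omega
    · refine ⟨hmk, ?_⟩
      set q := (X - C a) * (r * derivative t' - derivative r * t') - C (m : k) * r * t' with hq
      have hqa : q.eval a ≠ 0 := by
        simp [hq, hmk, hra, hta]
      have hne : (X - C a) ^ m' * q ≠ 0 := hW ▸ hwu0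
      rw [hW, rootMultiplicity_mul hne, rootMultiplicity_X_sub_C_pow, rootMultiplicity_eq_zero hqa] at hord
      omega
  refine ⟨⟨⟨u, hu, hu0, hmain.2.ge⟩, fun q hq hq0 => ?_⟩, fun hd => hmain.1 ?_⟩
  · obtain ⟨x, y, rfl⟩ := hspan q hq
    by_cases hy : y = 0
    · subst hy
      simp only [map_zero, zero_mul, add_zero] at hq0 ⊢
      rw [rootMultiplicity_mul hq0, rootMultiplicity_C, zero_add]
      exact hmain.2.le
    · rw [rootMultiplicity_eq_zero]
      · exact Nat.zero_le _
      · simp [hua, hy, hta]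
  · rw [hmain.2]
    exact (CharP.cast_eq_zero_iff k p e).2 hd

/-- Pairs `(F, G)` with `F, G, F + G` vanishing to the prescribed orders at three points. -/
def pairs (d : ℕ) (P : Fin 3 → k) (e : Fin 3 → ℕ) : Submodule k (k[X] × k[X]) where
  carrier := {v | v.1.natDegree ≤ d ∧ v.2.natDegree ≤ d ∧ (X - C (P 0)) ^ e 0 ∣ v.1 ∧
    (X - C (P 1)) ^ e 1 ∣ v.2 ∧ (X - C (P 2)) ^ e 2 ∣ v.1 + v.2}
  zero_mem' := by simp
  add_mem' := fun {a b} ha hb => ⟨(natDegree_add_le _ _).trans (max_le ha.1 hb.1),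
    (natDegree_add_le _ _).trans (max_le ha.2.1 hb.2.1), dvd_add ha.2.2.1 hb.2.2.1,
    dvd_add ha.2.2.2.1 hb.2.2.2.1, by
      have := dvd_add ha.2.2.2.2 hb.2.2.2.2
      simpa [add_add_add_comm] using this⟩
  smul_mem' := fun c a ha => ⟨(natDegree_smul_le _ _).trans ha.1, (natDegree_smul_le _ _).trans ha.2.1,
    dvd_smul' c ha.2.2.1, dvd_smul' c ha.2.2.2.1, by
      have := dvd_smul' c ha.2.2.2.2
      simpa [smul_add] using this⟩

section ThreePoints

variable {p d : ℕ} {P : Fin 3 → k} {e : Fin 3 → ℕ}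

theorem sum_three (he : Admissible p d e) : e 0 + e 1 + e 2 = 2 * d + 1 := by
  have := he.2
  rw [Fin.sum_univ_three] at this
  omega

theorem eq_zero_of_two (hP : Function.Injective P) (he : Admissible p d e) {i j : Fin 3} (hij : i ≠ j)
    {s : k[X]} (hs : s.natDegree ≤ d) (hi : (X - C (P i)) ^ e i ∣ s) (hj : (X - C (P j)) ^ e j ∣ s) :
    s = 0 := by
  by_contra h0
  have hdvd := ((pairwise_coprime_X_sub_C hP hij).pow (m := e i) (n := e j)).mul_dvd hi hj
  have hl := natDegree_le_of_dvd hdvd h0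
  rw [natDegree_mul (pow_ne_zero _ (X_sub_C_ne_zero _)) (pow_ne_zero _ (X_sub_C_ne_zero _)),
    natDegree_pow, natDegree_pow, natDegree_X_sub_C, natDegree_X_sub_C] at hl
  have h3 := sum_three he
  have hl3 : ∀ i j : Fin 3, i ≠ j → ∃ l : Fin 3, l ≠ i ∧ l ≠ j := by decide
  obtain ⟨l, hli, hlj⟩ := hl3 i j hij
  have := (he.1 l).2.1
  have hsum : e i + e j + e l = e 0 + e 1 + e 2 := by
    fin_cases i <;> fin_cases j <;> fin_cases l <;> first | (exfalso; simp_all; done) | (simp <;> omega)
  omega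

theorem indep_of_mem (hP : Function.Injective P) (he : Admissible p d e) {v : k[X] × k[X]}
    (hv : v ∈ pairs d P e) (hv0 : v ≠ 0) {a b : k} (hab : C a * v.1 + C b * v.2 = 0) : a = 0 ∧ b = 0 := by
  obtain ⟨h1, h2, hF, hG, hFG⟩ := hv
  have hF0 : v.1 ≠ 0 := fun h => by
    rw [h, zero_add] at hFG
    exact hv0 (Prod.ext h (eq_zero_of_two hP he (show (1 : Fin 3) ≠ 2 by decide) h2 hG hFG))
  have hG0 : v.2 ≠ 0 := fun h => by
    rw [h, add_zero] at hFG
    exact hv0 (Prod.ext (eq_zero_of_two hP he (show (0 : Fin 3) ≠ 2 by decide) h1 hF hFG) h)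
  by_cases hb : b = 0
  · rw [hb, map_zero, zero_mul, add_zero, mul_eq_zero, C_eq_zero, or_iff_left hF0] at hab
    exact ⟨hab, hb⟩
  · exfalso
    have hG' : v.2 = C (-a / b) * v.1 := by
      apply mul_left_cancel₀ (C_ne_zero.2 hb)
      rw [← mul_assoc, ← map_mul, mul_div_cancel₀ _ hb, map_neg]
      linear_combination hab
    exact hG0 (eq_zero_of_two hP he (show (0 : Fin 3) ≠ 1 by decide) h2 (hG' ▸ hF.mul_left _) hG)

theorem pairs_ne_bot (he : Admissible p d e) : pairs d P e ≠ ⊥ := by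
  let M := degreeLT k (d + 1 - e 0) × degreeLT k (d + 1 - e 1)
  have : FiniteDimensional k (degreeLT k (d + 1 - e 0)) := Module.Finite.equiv (degreeLTEquiv k _).symm
  have : FiniteDimensional k (degreeLT k (d + 1 - e 1)) := Module.Finite.equiv (degreeLTEquiv k _).symm
  have : FiniteDimensional k (degreeLT k (e 2)) := Module.Finite.equiv (degreeLTEquiv k _).symm
  let q := (X - C (P 2)) ^ e 2
  have hq : q.Monic := (monic_X_sub_C _).pow _
  let ι : M →ₗ[k] k[X] × k[X] :=
    (((LinearMap.mulLeft k ((X - C (P 0)) ^ e 0)).comp (degreeLT k _).subtype).prodMap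
      ((LinearMap.mulLeft k ((X - C (P 1)) ^ e 1)).comp (degreeLT k _).subtype))
  let Θ : M →ₗ[k] degreeLT k (e 2) :=
    ((modByMonicHom q).comp ((LinearMap.fst k k[X] k[X] + LinearMap.snd k k[X] k[X]).comp ι)).codRestrict _
      fun x => mem_degreeLT.2 (lt_of_lt_of_le (degree_modByMonic_lt _ hq) (by
        rw [degree_pow, degree_X_sub_C, nsmul_one]))
  have hdim : Module.finrank k (degreeLT k (e 2)) < Module.finrank k M := by
    rw [Module.finrank_prod, (degreeLTEquiv k _).finrank_eq, (degreeLTEquiv k _).finrank_eq,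
      (degreeLTEquiv k _).finrank_eq, Module.finrank_fin_fun, Module.finrank_fin_fun, Module.finrank_fin_fun]
    have := sum_three he
    have := (he.1 0).2.1
    have := (he.1 1).2.1
    omega
  obtain ⟨x, hx, hx0⟩ := (Submodule.ne_bot_iff _).1 (LinearMap.ker_ne_bot_of_finrank_lt (f := Θ) hdim)
  refine (Submodule.ne_bot_iff _).2 ⟨ι x, ⟨?_, ?_, dvd_mul_right _ _, dvd_mul_right _ _, ?_⟩, ?_⟩
  all_goals clear hdim
  · change ((X - C (P 0)) ^ e 0 * (x.1 : k[X])).natDegree ≤ d
    refine natDegree_mul_le.trans ?_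
    rw [natDegree_pow, natDegree_X_sub_C, mul_one]
    have h := mem_degreeLT.1 x.1.2
    rcases eq_or_ne (x.1 : k[X]) 0 with h0 | h0
    · simp [h0]; exact (he.1 0).2.1
    · rw [degree_eq_natDegree h0] at h; simp at h; simp; omega
  · change ((X - C (P 1)) ^ e 1 * (x.2 : k[X])).natDegree ≤ d
    refine natDegree_mul_le.trans ?_
    rw [natDegree_pow, natDegree_X_sub_C, mul_one]
    have h := mem_degreeLT.1 x.2.2
    rcases eq_or_ne (x.2 : k[X]) 0 with h0 | h0
    · simp [h0]; exact (he.1 1).2.1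
    · rw [degree_eq_natDegree h0] at h; simp at h; simp; omega
  · exact (modByMonic_eq_zero_iff_dvd hq).1 (congrArg Subtype.val (LinearMap.mem_ker.1 hx))
  · intro h
    apply hx0
    have h1 : ((X - C (P 0)) ^ e 0) * (x.1 : k[X]) = 0 := congrArg Prod.fst h
    have h2 : ((X - C (P 1)) ^ e 1) * (x.2 : k[X]) = 0 := congrArg Prod.snd h
    exact Prod.ext (Subtype.ext ((mul_eq_zero.1 h1).resolve_left (pow_ne_zero _ (X_sub_C_ne_zero _))))
      (Subtype.ext ((mul_eq_zero.1 h2).resolve_left (pow_ne_zero _ (X_sub_C_ne_zero _))))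

theorem span_props (hP : Function.Injective P) (he : Admissible p d e) {v : k[X] × k[X]}
    (hv : v ∈ pairs d P e) (hv0 : v ≠ 0) :
    Submodule.span k {v.1, v.2} ≤ degreeLE k d ∧ Module.finrank k (Submodule.span k {v.1, v.2}) = 2 ∧
      ∀ i, ∃ s ∈ Submodule.span k {v.1, v.2}, s ≠ 0 ∧ e i ≤ rootMultiplicity (P i) s := by
  have hind := fun a b => indep_of_mem (a := a) (b := b) hP he hv hv0
  obtain ⟨h1, h2, hF, hG, hFG⟩ := hv
  refine ⟨Submodule.span_le.2 ?_, ?_, fun i => ?_⟩
  · rintro s (rfl | rfl) <;> exact mem_degreeLE.2 (natDegree_le_iff_degree_le.1 (by assumption))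
  · have hli : LinearIndependent k ![v.1, v.2] := LinearIndependent.pair_iff.2 fun a b hab =>
      hind a b (by simpa [smul_eq_C_mul] using hab)
    rw [← Matrix.range_cons_cons_empty v.1 v.2 ![], finrank_span_eq_card hli]
    simp
  · fin_cases i
    · have h0 : v.1 ≠ 0 := fun h => one_ne_zero (hind 1 0 (by simp [h])).1
      exact ⟨v.1, Submodule.subset_span (Set.mem_insert _ _), h0, (le_rootMultiplicity_iff h0).2 hF⟩
    · have h0 : v.2 ≠ 0 := fun h => one_ne_zero (hind 0 1 (by simp [h])).2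
      exact ⟨v.2, Submodule.subset_span (by simp), h0, (le_rootMultiplicity_iff h0).2 hG⟩
    · have h0 : v.1 + v.2 ≠ 0 := fun h => one_ne_zero (hind 1 1 (by simpa using h)).1
      exact ⟨v.1 + v.2, mem_span_pair_C.2 ⟨1, 1, by simp⟩, h0, (le_rootMultiplicity_iff h0).2 hFG⟩

theorem exists_pair_mem (hP : Function.Injective P) (he : Admissible p d e) {V : Submodule k k[X]}
    (hle : V ≤ degreeLE k d) (hrk : Module.finrank k V = 2)
    (hmem : ∀ i, ∃ s ∈ V, s ≠ 0 ∧ e i ≤ rootMultiplicity (P i) s) :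
    ∃ v ∈ pairs d P e, v ≠ 0 ∧ Submodule.span k {v.1, v.2} = V := by
  choose s hs hs0 hse using hmem
  have hd : ∀ i, (X - C (P i)) ^ e i ∣ s i := fun i => (le_rootMultiplicity_iff (hs0 i)).1 (hse i)
  have hli : LinearIndependent k ![s 0, s 1] := LinearIndependent.pair_iff.2 fun a b hab => by
    simp only [smul_eq_C_mul] at hab
    by_cases ha : a = 0
    · rw [ha, map_zero, zero_mul, zero_add, mul_eq_zero, C_eq_zero, or_iff_left (hs0 1)] at hab
      exact ⟨ha, hab⟩
    · exfalso
      refine hs0 0 (eq_zero_of_two hP he (show (0 : Fin 3) ≠ 1 by decide)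
        (natDegree_le_of_mem hle (hs 0)) (hd 0) ?_)
      have h : C a * s 0 = -(C b * s 1) := eq_neg_of_add_eq_zero_left hab
      rw [← (isUnit_C.2 (isUnit_iff_ne_zero.2 ha)).dvd_mul_left, h, dvd_neg]
      exact (hd 1).mul_left _
  have : FiniteDimensional k V := FiniteDimensional.of_finrank_pos (by omega)
  have hspan : Submodule.span k {s 0, s 1} = V := by
    refine Submodule.eq_of_le_of_finrank_le (Submodule.span_le.2 ?_) ?_
    · rintro _ (rfl | rfl) <;> exact hs _
    · rw [hrk, ← Matrix.range_cons_cons_empty (s 0) (s 1) ![], finrank_span_eq_card hli]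
      simp
  obtain ⟨a, b, hab⟩ := mem_span_pair_C.1 (hspan.ge (hs 2))
  have ha : a ≠ 0 := by
    rintro rfl
    rw [map_zero, zero_mul, zero_add] at hab
    exact hs0 2 (eq_zero_of_two hP he (show (1 : Fin 3) ≠ 2 by decide) (natDegree_le_of_mem hle (hs 2))
      (hab ▸ (hd 1).mul_left _) (hd 2))
  have hb : b ≠ 0 := by
    rintro rfl
    rw [map_zero, zero_mul, add_zero] at hab
    exact hs0 2 (eq_zero_of_two hP he (show (0 : Fin 3) ≠ 2 by decide) (natDegree_le_of_mem hle (hs 2))
      (hab ▸ (hd 0).mul_left _) (hd 2))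
  refine ⟨(C a * s 0, C b * s 1), ⟨(natDegree_C_mul_le _ _).trans (natDegree_le_of_mem hle (hs 0)),
    (natDegree_C_mul_le _ _).trans (natDegree_le_of_mem hle (hs 1)), (hd 0).mul_left _, (hd 1).mul_left _,
    hab.symm ▸ hd 2⟩, fun h => hs0 0 ?_, ?_⟩
  · have h1 : C a * s 0 = 0 := congrArg Prod.fst h
    exact (mul_eq_zero.1 h1).resolve_left (C_ne_zero.2 ha)
  · rw [← hspan]
    refine le_antisymm (Submodule.span_le.2 ?_) (Submodule.span_le.2 ?_)
    · rintro _ (rfl | rfl)
      exacts [mem_span_pair_C.2 ⟨a, 0, by simp⟩, mem_span_pair_C.2 ⟨0, b, by simp⟩]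
    · rintro _ (rfl | rfl)
      exacts [mem_span_pair_C.2 ⟨a⁻¹, 0, by simp [← mul_assoc, ← map_mul, inv_mul_cancel₀ ha]⟩,
        mem_span_pair_C.2 ⟨0, b⁻¹, by simp [← mul_assoc, ← map_mul, inv_mul_cancel₀ hb]⟩]

theorem eq_smul_of_span_eq (hP : Function.Injective P) (he : Admissible p d e) {v w : k[X] × k[X]}
    (hv : v ∈ pairs d P e) (hw : w ∈ pairs d P e) (hv0 : v ≠ 0)
    (h : Submodule.span k {v.1, v.2} = Submodule.span k {w.1, w.2}) : ∃ c : k, w = c • v := by
  have hind := fun a b => indep_of_mem (a := a) (b := b) hP he hv hv0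
  obtain ⟨hv1, hv2, hvF, hvG, hvS⟩ := hv
  obtain ⟨hw1, hw2, hwF, hwG, hwS⟩ := hw
  obtain ⟨a, b, hab⟩ := mem_span_pair_C.1 (h.ge (Submodule.subset_span (Set.mem_insert w.1 _)))
  obtain ⟨a', b', hab'⟩ := mem_span_pair_C.1 (h.ge (Submodule.subset_span (show w.2 ∈ ({w.1, w.2} : Set k[X]) by simp)))
  have hb : b = 0 := by
    by_contra hb
    refine one_ne_zero (hind 0 1 ?_).2
    rw [map_zero, zero_mul, zero_add, map_one, one_mul]
    refine eq_zero_of_two hP he (show (0 : Fin 3) ≠ 1 by decide) hv2 ?_ hvG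
    rw [← (isUnit_C.2 (isUnit_iff_ne_zero.2 hb)).dvd_mul_left,
      show C b * v.2 = w.1 - C a * v.1 by linear_combination hab]
    exact dvd_sub hwF (hvF.mul_left _)
  have ha' : a' = 0 := by
    by_contra ha
    refine one_ne_zero (hind 1 0 ?_).1
    rw [map_zero, zero_mul, add_zero, map_one, one_mul]
    refine eq_zero_of_two hP he (show (0 : Fin 3) ≠ 1 by decide) hv1 hvF ?_
    rw [← (isUnit_C.2 (isUnit_iff_ne_zero.2 ha)).dvd_mul_left,
      show C a' * v.1 = w.2 - C b' * v.2 by linear_combination hab']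
    exact dvd_sub hwG (hvG.mul_left _)
  rw [hb, map_zero, zero_mul, add_zero] at hab
  rw [ha', map_zero, zero_mul, zero_add] at hab'
  have hbeq : a = b' := by
    by_contra hne
    refine one_ne_zero (hind 0 1 ?_).2
    rw [map_zero, zero_mul, zero_add, map_one, one_mul]
    refine eq_zero_of_two hP he (show (1 : Fin 3) ≠ 2 by decide) hv2 hvG ?_
    rw [← (isUnit_C.2 (isUnit_iff_ne_zero.2 (sub_ne_zero.2 hne))).dvd_mul_left,
      show C (a - b') * v.2 = C a * (v.1 + v.2) - (w.1 + w.2) by rw [map_sub]; linear_combination -hab - hab']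
    exact dvd_sub (hvS.mul_left _) hwS
  exact ⟨a, Prod.ext (by simp [smul_eq_C_mul, hab]) (by simp [smul_eq_C_mul, hbeq, hab'])⟩

theorem proportional_of_coprime (hP : Function.Injective P) (he : Admissible p d e) {v w : k[X] × k[X]}
    (hv : v ∈ pairs d P e) (hw : w ∈ pairs d P e) (hc : IsCoprime v.1 v.2) (hdeg : v.1.natDegree = d ∨ v.2.natDegree = d) :
    ∃ c : k, w = c • v := by
  obtain ⟨hv1, hv2, hvF, hvG, hvS⟩ := hv
  obtain ⟨hw1, hw2, hwF, hwG, hwS⟩ := hw
  have hh : v.1 * w.2 - v.2 * w.1 = 0 := by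
    by_contra h0
    have hdvd : ∏ i, (X - C (P i)) ^ e i ∣ v.1 * w.2 - v.2 * w.1 :=
      Finset.prod_dvd_of_coprime (fun i _ j _ hij => (pairwise_coprime_X_sub_C hP hij).pow) fun i _ => by
        fin_cases i
        · exact dvd_sub (hvF.mul_right _) (hwF.mul_left _)
        · exact dvd_sub (hwG.mul_left _) (hvG.mul_right _)
        · rw [show v.1 * w.2 - v.2 * w.1 = (v.1 + v.2) * w.2 - v.2 * (w.1 + w.2) by ring]
          exact dvd_sub (hvS.mul_right _) (hwS.mul_left _)
    have hl := natDegree_le_of_dvd hdvd h0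
    rw [natDegree_prod_of_monic _ _ fun i _ => (monic_X_sub_C _).pow _] at hl
    simp only [natDegree_pow, natDegree_X_sub_C, mul_one, Fin.sum_univ_three] at hl
    have := sum_three he
    have h2 : (v.1 * w.2 - v.2 * w.1).natDegree ≤ 2 * d :=
      (natDegree_sub_le _ _).trans (max_le (natDegree_mul_le.trans (by omega)) (natDegree_mul_le.trans (by omega)))
    omega
  have hd := one_le_d he
  obtain ⟨q, hq⟩ : v.1 ∣ w.1 := hc.dvd_of_dvd_mul_left ⟨w.2, by linear_combination -hh⟩
  have hv10 : v.1 ≠ 0 := fun h => by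
    rw [h, zero_add] at hvS
    have h2 := eq_zero_of_two hP he (show (1 : Fin 3) ≠ 2 by decide) hv2 hvG hvS
    rw [h, h2, natDegree_zero] at hdeg
    omega
  have hw2q : w.2 = v.2 * q := mul_left_cancel₀ hv10 (by rw [hq] at hh; linear_combination hh)
  have hq0 : q.natDegree ≤ 0 := by
    rcases eq_or_ne q 0 with h | h
    · simp [h]
    rcases hdeg with h' | h'
    · rw [hq, natDegree_mul hv10 h, h'] at hw1; omega
    · have hv20 : v.2 ≠ 0 := fun h0 => by rw [h0, natDegree_zero] at h'; omega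
      rw [hw2q, natDegree_mul hv20 h, h'] at hw2; omega
  refine ⟨q.coeff 0, Prod.ext ?_ ?_⟩
  · rw [Prod.smul_fst, smul_eq_C_mul, ← eq_C_of_natDegree_le_zero hq0, mul_comm, hq]
  · rw [Prod.smul_snd, smul_eq_C_mul, ← eq_C_of_natDegree_le_zero hq0, mul_comm, hw2q]

theorem unique_of_mem [IsAlgClosed k] (hP : Function.Injective P) (he : Admissible p d e)
    {V W : Submodule k k[X]} (hV : V ∈ ramMaps d P e) (hle : W ≤ degreeLE k d) (hrk : Module.finrank k W = 2)
    (hmem : ∀ i, ∃ s ∈ W, s ≠ 0 ∧ e i ≤ rootMultiplicity (P i) s) : W = V := by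
  classical
  obtain ⟨⟨hVle, hVrk, ⟨s, hs, hsd⟩, hbp⟩, -, hram⟩ := hV
  obtain ⟨v, hv, hv0, hspan⟩ := exists_pair_mem hP he hVle hVrk fun i => (hram i).1
  obtain ⟨w, hw, hw0, hspan'⟩ := exists_pair_mem hP he hle hrk hmem
  obtain ⟨x, y, hxy⟩ := mem_span_pair_C.1 (hspan.ge hs)
  have hdeg : v.1.natDegree = d ∨ v.2.natDegree = d := by
    by_contra! h
    have h1 : v.1.natDegree < d := lt_of_le_of_ne hv.1 h.1
    have h2 : v.2.natDegree < d := lt_of_le_of_ne hv.2.1 h.2
    have := (natDegree_add_le (C x * v.1) (C y * v.2)).trans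
      (max_le_max (natDegree_C_mul_le _ _) (natDegree_C_mul_le _ _))
    rw [hxy, hsd] at this
    omega
  have hc : IsCoprime v.1 v.2 := by
    refine isCoprime_of_dvd _ _ (fun h => ?_) fun z hz hz0 hz1 hz2 => ?_
    · exact hv0 (Prod.ext h.1 h.2)
    · have hdeg' : z.degree ≠ 0 := fun h => hz (isUnit_iff_degree_eq_zero.2 h)
      obtain ⟨a, ha⟩ := IsAlgClosed.exists_root z hdeg'
      obtain ⟨q, hq, hqa⟩ := hbp a
      obtain ⟨x', y', rfl⟩ := mem_span_pair_C.1 (hspan.ge hq)
      refine hqa ?_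
      simp [eval_eq_zero_of_dvd_of_eval_eq_zero hz1 ha, eval_eq_zero_of_dvd_of_eval_eq_zero hz2 ha]
  obtain ⟨c, rfl⟩ := proportional_of_coprime hP he hv hw hc hdeg
  have hc0 : c ≠ 0 := by rintro rfl; exact hw0 (zero_smul _ _)
  rw [← hspan, ← hspan']
  refine le_antisymm (Submodule.span_le.2 ?_) (Submodule.span_le.2 ?_)
  · rintro _ (rfl | rfl)
    exacts [Submodule.smul_mem _ c (Submodule.subset_span (Set.mem_insert _ _)),
      Submodule.smul_mem _ c (Submodule.subset_span (by simp))]
  · rintro _ (rfl | rfl)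
    · exact (Submodule.smul_mem_iff _ hc0).1 (Submodule.subset_span (Set.mem_insert _ _))
    · exact (Submodule.smul_mem_iff _ hc0).1 (Submodule.subset_span (by simp))

theorem exists_mem_of_large (hP : Function.Injective P) (he : Admissible p d e) [CharP k p]
    (hp : p = 0 ∨ d < p) : ∃ V, V ∈ ramMaps d P e := by
  obtain ⟨v, hv, hv0⟩ := (Submodule.ne_bot_iff _).1 (pairs_ne_bot (P := P) he)
  obtain ⟨hle, hrk, hmem⟩ := span_props hP he hv hv0
  refine ⟨_, mem_ramMaps (one_le_d he) hP (fun i => (he.1 i).1) (sum_sub_one he) hle hrk ?_ hmem⟩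
  refine ⟨v.1, Submodule.subset_span (Set.mem_insert _ _), v.2, Submodule.subset_span (by simp), ?_⟩
  refine Proper.wronskian_ne_zero_of_indep (d := d) (fun m hm hmd h0 => ?_) hv.1 hv.2.1 fun a b h =>
    indep_of_mem hP he hv hv0 h
  have hdvd := (CharP.cast_eq_zero_iff k p m).1 h0
  rcases hp with rfl | hlt
  · have := zero_dvd_iff.1 hdvd; omega
  · have := Nat.le_of_dvd hm hdvd; omega

theorem insep_pencil [hk : CharP k p] (hp0 : p ≠ 0) (hP : Function.Injective P) (he : Admissible p d e)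
    (h0 : e 0 < p) (h1 : e 1 < p) (hpd : p ≤ d) :
    ∃ V : Submodule k k[X], V ≤ degreeLE k d ∧ Module.finrank k V = 2 ∧ ¬ IsSeparable V ∧
      ∀ i, ∃ s ∈ V, s ≠ 0 ∧ e i ≤ rootMultiplicity (P i) s := by
  have hpr : p.Prime := (CharP.char_is_prime_or_zero k p).resolve_right hp0
  have : Fact p.Prime := ⟨hpr⟩
  let m := e 2 - p
  let h := (X - C (P 2)) ^ m
  let A := fun i => (X - C (P i)) ^ p
  have hh0 : h ≠ 0 := pow_ne_zero _ (X_sub_C_ne_zero _)
  have hder : ∀ i, derivative (A i) = 0 := fun i => by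
    simp [A, derivative_pow, CharP.cast_eq_zero]
  have hAeq : ∀ i, A i = X ^ p - C (P i ^ p) := fun i => by
    simp only [A, sub_pow_char, ← map_pow]
  have hne : P 0 ^ p - P 1 ^ p ≠ 0 := by
    rw [← sub_pow_char]
    exact pow_ne_zero _ (sub_ne_zero.2 fun h => by simpa using hP h)
  refine ⟨Submodule.span k {h * A 0, h * A 1}, Submodule.span_le.2 ?_, ?_, ?_, fun i => ?_⟩
  · rintro _ (rfl | rfl) <;> refine mem_degreeLE.2 (natDegree_le_iff_degree_le.1 (natDegree_mul_le.trans ?_)) <;>
      simp only [h, A, natDegree_pow, natDegree_X_sub_C, mul_one, m] <;>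
      (have := (he.1 2).2.1; omega)
  · have hli : LinearIndependent k ![h * A 0, h * A 1] := LinearIndependent.pair_iff.2 fun a b hab => by
      have h2 : h * (C a * A 0 + C b * A 1) = 0 := by simp only [smul_eq_C_mul] at hab; linear_combination hab
      have h3 := (mul_eq_zero.1 h2).resolve_left hh0
      have h4 := congrArg (eval (P 0)) h3
      have h5 := congrArg (eval (P 1)) h3
      simp [A, hpr.ne_zero, hP.eq_iff, sub_eq_zero] at h4 h5
      exact ⟨h5, h4⟩
    rw [← Matrix.range_cons_cons_empty (h * A 0) (h * A 1) ![], finrank_span_eq_card hli]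
    simp
  · rintro ⟨F, hF, G, hG, hw⟩
    obtain ⟨a, b, rfl⟩ := mem_span_pair_C.1 hF
    obtain ⟨a', b', rfl⟩ := mem_span_pair_C.1 hG
    apply hw
    rw [wronskian_comb]
    simp only [wronskian, derivative_mul, hder]
    ring
  · have hmem : ∀ i, h * A i ∈ Submodule.span k {h * A 0, h * A 1} := by
      intro i
      refine mem_span_pair_C.2 ⟨(P i ^ p - P 1 ^ p) / (P 0 ^ p - P 1 ^ p),
        (P 0 ^ p - P i ^ p) / (P 0 ^ p - P 1 ^ p), ?_⟩
      have hC : C (P 0 ^ p - P 1 ^ p) ≠ 0 := C_ne_zero.2 hne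
      apply mul_left_cancel₀ hC
      rw [mul_add, ← mul_assoc, ← map_mul, mul_div_cancel₀ _ hne, ← mul_assoc (C _) (C _), ← map_mul,
        mul_div_cancel₀ _ hne]
      simp only [hAeq, map_sub]
      ring
    have hne' : h * A i ≠ 0 := mul_ne_zero hh0 (pow_ne_zero _ (X_sub_C_ne_zero _))
    refine ⟨h * A i, hmem i, hne', (le_rootMultiplicity_iff hne').2 ?_⟩
    fin_cases i
    · exact (pow_dvd_pow _ h0.le).mul_left _
    · exact (pow_dvd_pow _ h1.le).mul_left _
    · exact (pow_dvd_pow (X - C (P 2)) (show e 2 ≤ m + p by omega)).trans (dvd_of_eq (pow_add _ _ _))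

theorem empty_of_insep [IsAlgClosed k] (hP : Function.Injective P) (he : Admissible p d e)
    {W : Submodule k k[X]} (hle : W ≤ degreeLE k d) (hrk : Module.finrank k W = 2) (hns : ¬ IsSeparable W)
    (hmem : ∀ i, ∃ s ∈ W, s ≠ 0 ∧ e i ≤ rootMultiplicity (P i) s) : ramMaps d P e = ∅ :=
  Set.eq_empty_iff_forall_notMem.2 fun _ hV => hns (unique_of_mem hP he hV hle hrk hmem ▸ hV.2.1)

end ThreePoints

theorem empty_or_infinite [IsAlgClosed k] {p : ℕ} [Fact p.Prime] [CharP k p] {d : ℕ} {P : Fin n → k}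
    {e : Fin n → ℕ} {E : ℕ} (he : Admissible p d (Fin.cons E e : Fin (n + 1) → ℕ))
    (hlt : ∀ i, e i < p) (hE : p < E) :
    {V : Submodule k k[X] | V ∈ ramMaps d P e ∧ HasRamIdxInf d V E} = ∅ ∨
      {V : Submodule k k[X] | V ∈ ramMaps d P e ∧ HasRamIdxInf d V E}.Infinite := by
  classical
  rcases Set.eq_empty_or_nonempty {V : Submodule k k[X] | V ∈ ramMaps d P e ∧ HasRamIdxInf d V E} with h | h
  · exact Or.inl h
  right
  obtain ⟨V, ⟨hpen, hsep, hram⟩, ⟨G, hG, hG0, hGE⟩, hmax⟩ := h
  obtain ⟨F, hF, hFd⟩ := hpen.2.2.1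
  have hdE : E ≤ d := by simpa using (he.1 0).2.1
  have hE2 : 2 ≤ E := by simpa using (he.1 0).1
  have hp := (Fact.out : p.Prime).two_le
  have hGd : G.natDegree + E = d := le_antisymm hGE (hmax G hG hG0)
  have hF0 : F ≠ 0 := fun h => by rw [h, natDegree_zero] at hFd; omega
  have hli : LinearIndependent k ![F, G] := LinearIndependent.pair_iff.2 fun a b hab => by
    simp only [smul_eq_C_mul] at hab
    have h1 := congrArg (fun r => r.coeff d) hab
    simp [← hFd, coeff_eq_zero_of_natDegree_lt (show G.natDegree < F.natDegree by omega), hF0] at h1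
    rw [h1, map_zero, zero_mul, zero_add, mul_eq_zero, C_eq_zero, or_iff_left hG0] at hab
    exact ⟨h1, hab⟩
  have : FiniteDimensional k V := FiniteDimensional.of_finrank_pos (by rw [hpen.2.1]; norm_num)
  have hV : V = Submodule.span k {F, G} := by
    refine (Submodule.eq_of_le_of_finrank_le (Submodule.span_le.2 ?_) ?_).symm
    · rintro _ (rfl | rfl) <;> assumption
    · rw [hpen.2.1, ← Matrix.range_cons_cons_empty F G ![], finrank_span_eq_card hli]
      simp
  subst hV
  have hw := Basic.wronskian_ne_zero hsep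
  let F' : k → k[X] := fun t => F + C t * (X ^ p * G)
  have hdegp : ∀ t : k, (C t * (X ^ p * G)).natDegree < d := fun t =>
    lt_of_le_of_lt ((natDegree_C_mul_le _ _).trans natDegree_mul_le) (by simp; omega)
  have hF'd : ∀ t, (F' t).natDegree = d := fun t => by
    rw [natDegree_add_eq_left_of_natDegree_lt (by rw [hFd]; exact hdegp t), hFd]
  have hW : ∀ t, wronskian (F' t) G = wronskian F G := fun t => by
    simp only [F', wronskian, derivative_add, derivative_C_mul, derivative_mul, derivative_X_pow, derivative_C,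
      CharP.cast_eq_zero, map_zero, zero_mul]
    ring
  have hord : ∀ i, (wronskian F G).rootMultiplicity (P i) + 1 = e i := fun i => by
    obtain ⟨s, hs, hs0, hse⟩ := (hram i).1
    obtain ⟨x, y, rfl⟩ := mem_span_pair_C.1 hs
    have hxy : x ≠ 0 ∨ y ≠ 0 := by by_contra! h; exact hs0 (by rw [h.1, h.2]; simp)
    have h1 := (le_rootMultiplicity_iff hw).2 (pow_dvd_wronskian_of_member hxy ((le_rootMultiplicity_iff hs0).1 hse))
    have he2 : 2 ≤ e i := by simpa using (he.1 i.succ).1
    have hne : (e i : k) ≠ 0 := fun h => by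
      have := Nat.le_of_dvd (by omega) ((CharP.cast_eq_zero_iff k p _).1 h)
      have := hlt i
      omega
    obtain ⟨m, hm⟩ : ∃ m, (wronskian F G).rootMultiplicity (P i) + 1 = m := ⟨_, rfl⟩
    by_contra hcon
    -- the exact order is computed from the maximal member
    obtain ⟨u, hu, hu0, hue⟩ := (hram i).1
    obtain ⟨t', ht', hta⟩ := hpen.2.2.2 (P i)
    have hum : u.rootMultiplicity (P i) = e i := le_antisymm ((hram i).2 u hu hu0) hue
    obtain ⟨r, hr⟩ := pow_rootMultiplicity_dvd u (P i)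
    have hra : r.eval (P i) ≠ 0 := by
      intro h
      obtain ⟨r', rfl⟩ := (dvd_iff_isRoot (a := P i)).2 h
      have := (le_rootMultiplicity_iff hu0 (n := e i + 1) (a := P i)).2 ⟨r', by
        rw [pow_succ, mul_assoc]; rw [hum] at hr; exact hr⟩
      omega
    obtain ⟨e', he'⟩ : ∃ e', e i = e' + 1 := ⟨e i - 1, by omega⟩
    have hWu : wronskian u t' = (X - C (P i)) ^ e' *
        ((X - C (P i)) * (r * derivative t' - derivative r * t') - C (e i : k) * r * t') := by
      rw [hr, hum, he']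
      simp only [wronskian, derivative_mul, derivative_pow, derivative_sub, derivative_X, derivative_C,
        Nat.add_sub_cancel, sub_zero, mul_one, map_natCast, Nat.cast_add, Nat.cast_one, map_add, map_one]
      ring
    obtain ⟨a, b, rfl⟩ := mem_span_pair_C.1 hu
    obtain ⟨a', b', rfl⟩ := mem_span_pair_C.1 ht'
    rw [wronskian_comb] at hWu
    have h2 : (X - C (P i)) ^ e i ∣ wronskian F G := (le_rootMultiplicity_iff hw).1 (by omega)
    have h3 := h2.mul_left (C (a * b' - b * a'))
    rw [hWu, he', pow_succ, mul_dvd_mul_iff_left (pow_ne_zero _ (X_sub_C_ne_zero _))] at h3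
    have h4 := eval_eq_zero_of_dvd_of_eval_eq_zero h3 (show eval (P i) (X - C (P i)) = 0 by simp)
    simp [hne, hra, hta, he'] at h4
    exact hne (by rw [he']; push_cast; exact h4.resolve_right (by simpa using hta))
  have key : ∀ t, Submodule.span k {F' t, G} ∈
      {V : Submodule k k[X] | V ∈ ramMaps d P e ∧ HasRamIdxInf d V E} := by
    intro t
    have hli' : LinearIndependent k ![F' t, G] := LinearIndependent.pair_iff.2 fun a b hab => by
      simp only [smul_eq_C_mul] at hab
      have h0 : F' t ≠ 0 := fun h => by have := hF'd t; rw [h, natDegree_zero] at this; omega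
      have h1 := congrArg (fun r => r.coeff d) hab
      simp [← hF'd t, coeff_eq_zero_of_natDegree_lt (show G.natDegree < (F' t).natDegree by rw [hF'd]; omega), h0] at h1
      rw [h1, map_zero, zero_mul, zero_add, mul_eq_zero, C_eq_zero, or_iff_left hG0] at hab
      exact ⟨h1, hab⟩
    have hrk : Module.finrank k (Submodule.span k {F' t, G}) = 2 := by
      rw [← Matrix.range_cons_cons_empty (F' t) G ![], finrank_span_eq_card hli']
      simp
    have hpen' : IsPencil d (Submodule.span k {F' t, G}) := by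
      refine ⟨Submodule.span_le.2 ?_, hrk, ⟨F' t, Submodule.subset_span (Set.mem_insert _ _), hF'd t⟩, fun a => ?_⟩
      · rintro _ (rfl | rfl) <;> refine mem_degreeLE.2 (natDegree_le_iff_degree_le.1 ?_)
        exacts [(hF'd t).le, by omega]
      · by_cases hGa : G.eval a = 0
        · refine ⟨F' t, Submodule.subset_span (Set.mem_insert _ _), ?_⟩
          obtain ⟨s, hs, hsa⟩ := hpen.2.2.2 a
          obtain ⟨x, y, rfl⟩ := mem_span_pair_C.1 hs
          simp [F', hGa] at hsa ⊢
          exact hsa.2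
        · exact ⟨G, Submodule.subset_span (by simp), hGa⟩
    refine ⟨⟨hpen', ⟨F' t, Submodule.subset_span (Set.mem_insert _ _), G, Submodule.subset_span (by simp),
      by rw [hW]; exact hw⟩, fun i => ?_⟩, ⟨G, Submodule.subset_span (by simp), hG0, hGE⟩, fun s hs hs0 => ?_⟩
    · exact (hasRamIdx_of_wronskian (p := p) (F := F' t) (G := G) hrk (hpen'.2.2.2 _) (Submodule.subset_span (Set.mem_insert _ _))
        (Submodule.subset_span (by simp)) (by rw [hW]; exact hw) (by rw [hW]; exact hord i)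
        (Or.inr (by have := hlt i; omega))).1
    · obtain ⟨x, y, rfl⟩ := mem_span_pair_C.1 hs
      by_cases hx : x = 0
      · subst hx
        have hy : y ≠ 0 := fun h => hs0 (by simp [h])
        rw [map_zero, zero_mul, zero_add, natDegree_C_mul hy]
        omega
      · rw [natDegree_add_eq_left_of_natDegree_lt, natDegree_C_mul hx, hF'd]
        · omega
        · rw [natDegree_C_mul hx, hF'd]
          exact lt_of_le_of_lt (natDegree_C_mul_le _ _) (by omega)
  refine Set.infinite_of_injective_forall_mem (f := fun t => Submodule.span k {F' t, G}) (fun t u htu => ?_) key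
  by_contra hne
  obtain ⟨x, y, hxy⟩ := mem_span_pair_C.1 (htu.le (Submodule.subset_span (Set.mem_insert (F' t) {G})))
  have h1 := congrArg (fun r => r.coeff d) hxy
  have hFd1 : F.coeff d ≠ 0 := by rw [← hFd]; exact leadingCoeff_ne_zero.2 hF0
  have hz : ∀ t : k, (C t * (X ^ p * G)).coeff d = 0 := fun t => coeff_eq_zero_of_natDegree_lt (hdegp t)
  have hGz : G.coeff d = 0 := coeff_eq_zero_of_natDegree_lt (by omega)
  simp only [F', coeff_add, mul_add, ← mul_assoc, ← map_mul] at h1
  simp only [mul_assoc (C _) (X ^ p) G, hz, coeff_C_mul, hGz, mul_zero, add_zero] at h1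
  have hx1 : x = 1 := mul_right_cancel₀ hFd1 (by rw [one_mul]; simpa using h1)
  rw [hx1] at hxy
  simp only [F', map_one, one_mul] at hxy
  have h2 : (C (u - t) * X ^ p + C y) * G = 0 := by rw [map_sub]; linear_combination hxy
  have h3 := congrArg (fun r => r.coeff p) ((mul_eq_zero.1 h2).resolve_right hG0)
  rw [coeff_add, coeff_C_mul, coeff_X_pow_self, coeff_C_of_ne_zero (Fact.out : p.Prime).ne_zero] at h3
  simp [sub_eq_zero] at h3
  exact hne h3.symm

end

end Groth.Agent.Lib.RamP1.Three
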