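import Groth.Agent.Lib.RamP1.Three
import Mathlib.RingTheory.DiscreteValuationRing.Basic
import Mathlib.RingTheory.LocalRing.ResidueField.Basic
import Mathlib.Algebra.Polynomial.Expand
import Mathlib.RingTheory.UniqueFactorizationDomain.Basic
import Mathlib.RingTheory.Polynomial.UniqueFactorization

/-!
# Pencils whose limit is inseparable

If a family of separable pencils over a discrete valuation ring of characteristic `p` with prescribed
tame ramification at points with distinct reductions degenerates to an inseparable pencil, then the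
change of basis by matrices with coefficients killed by the derivation produces a separable pencil over
the residue field with one more ramification point at infinity.
-/

open Polynomial
open W4c1limliniiii
open Groth.Agent.Lib.RamP1.Basic Groth.Agent.Lib.RamP1.Three

universe u

namespace Groth.Agent.Lib.RamP1.Limit

noncomputable section

section Ring

variable {R S : Type u} [CommRing R] [CommRing S]

/-- `(X - a) d/dX`. -/
def theta (a : R) (g : R[X]) : R[X] := (X - C a) * derivative g

@[simp]
theorem eval_theta (a : R) (g : R[X]) : (theta a g).eval a = 0 := by simp [theta]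

theorem theta_pow_mul (a : R) (m : ℕ) (g : R[X]) :
    theta a ((X - C a) ^ m * g) = (X - C a) ^ m * ((m : R[X]) * g + theta a g) := by
  induction m generalizing g with
  | zero => simp
  | succ m ih =>
    rw [pow_succ, mul_assoc, ih]
    simp only [theta, derivative_mul, derivative_sub, derivative_X, derivative_C, sub_zero, one_mul]
    push_cast
    ring

/-- The second order expression attached to a member of a pencil with Wronskian `W`. -/
def second (W g : R[X]) : R[X] := W * derivative (derivative g) - derivative W * derivative g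

theorem sq_mul_second (a : R) (W g : R[X]) :
    (X - C a) ^ 2 * second W g = W * (theta a (theta a g) - theta a g) - theta a W * theta a g := by
  simp only [second, theta, derivative_mul, derivative_sub, derivative_X, derivative_C, sub_zero, one_mul]
  ring

theorem exists_second_eq (a : R) (m Γ : ℕ) (Q g : R[X]) :
    ∃ Φ : R[X], (X - C a) ^ 2 * second ((X - C a) ^ m * Q) ((X - C a) ^ Γ * g) = (X - C a) ^ (Γ + m) * Φ ∧
      Φ.eval a = Q.eval a * g.eval a * ((Γ : R) * Γ - Γ - m * Γ) := by
  let L1 := (Γ : R[X]) * g + theta a g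
  let L2 := (Γ : R[X]) * L1 + theta a L1 - L1
  refine ⟨Q * L2 - ((m : R[X]) * Q + theta a Q) * L1, ?_, ?_⟩
  · rw [sq_mul_second, theta_pow_mul, theta_pow_mul, theta_pow_mul, pow_add]
    simp only [L1, L2]
    ring
  · simp [L1, L2]
    ring

theorem map_second (f : R →+* S) (W g : R[X]) : (second W g).map f = second (W.map f) (g.map f) := by
  simp [second, derivative_map]

theorem map_wronskian (f : R →+* S) (W g : R[X]) :
    (wronskian W g).map f = wronskian (W.map f) (g.map f) := by
  simp [wronskian, derivative_map]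

theorem second_eq_of_wronskian (H g : R[X]) :
    second (wronskian H g) g =
      g * (derivative (derivative H) * derivative g - derivative H * derivative (derivative g)) := by
  simp only [second, wronskian, derivative_sub, derivative_mul]
  ring

theorem coeff_theta (g : R[X]) (j : ℕ) : (theta 0 g).coeff j = j * g.coeff j := by
  rw [theta, map_zero, sub_zero]
  rcases j with _ | j
  · simp
  · rw [coeff_X_mul, coeff_derivative]; push_cast; ring

theorem natDegree_theta_le {g : R[X]} {N : ℕ} (h : g.natDegree ≤ N) : (theta 0 g).natDegree ≤ N :=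
  natDegree_le_iff_coeff_eq_zero.2 fun j hj => by
    rw [coeff_theta, coeff_eq_zero_of_natDegree_lt (lt_of_le_of_lt h hj), mul_zero]

theorem top_second {W g : R[X]} {N Γ : ℕ} (hW : W.natDegree ≤ N) (hg : g.natDegree ≤ Γ) :
    (X ^ 2 * second W g).natDegree ≤ N + Γ ∧ (X ^ 2 * second W g).coeff (N + Γ) =
      W.coeff N * g.coeff Γ * ((Γ : R) * Γ - Γ - N * Γ) := by
  have h := sq_mul_second 0 W g
  rw [map_zero, sub_zero] at h
  have h1 := natDegree_theta_le hg
  have h2 := natDegree_theta_le hW
  have h3 : (theta 0 (theta 0 g) - theta 0 g).natDegree ≤ Γ :=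
    (natDegree_sub_le _ _).trans (max_le (natDegree_theta_le h1) h1)
  rw [h]
  refine ⟨(natDegree_sub_le _ _).trans (max_le (natDegree_mul_le.trans (Nat.add_le_add hW h3))
    (natDegree_mul_le.trans (Nat.add_le_add h2 h1))), ?_⟩
  rw [coeff_sub, coeff_mul_add_eq_of_natDegree_le hW h3, coeff_mul_add_eq_of_natDegree_le h2 h1, coeff_sub,
    coeff_theta, coeff_theta, coeff_theta]
  ring

/-- The scalar `q_N` of the second order equation, when `g` has exact degree `Γ`. -/
theorem top_equation [IsDomain R] {W g q : R[X]} {N : ℕ} (hW : W.natDegree ≤ N) (hW1 : W.coeff N = 1)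
    (hg : g ≠ 0) (h : second W g = g * q) :
    (X ^ 2 * q).natDegree ≤ N ∧
      (X ^ 2 * q).coeff N = (g.natDegree : R) * g.natDegree - g.natDegree - N * g.natDegree := by
  obtain ⟨h1, h2⟩ := top_second hW (le_refl g.natDegree)
  rw [h, mul_left_comm] at h1 h2
  have hle : (X ^ 2 * q).natDegree ≤ N := by
    rcases eq_or_ne (X ^ 2 * q) 0 with h0 | h0
    · simp [h0]
    · rw [natDegree_mul hg h0] at h1; omega
  refine ⟨hle, ?_⟩
  rw [add_comm N, coeff_mul_add_eq_of_natDegree_le le_rfl hle, hW1, one_mul, coeff_natDegree] at h2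
  exact mul_left_cancel₀ (leadingCoeff_ne_zero.2 hg) h2

theorem wronskian_mul_zero_deriv {a : R[X]} (ha : derivative a = 0) (F G : R[X]) :
    wronskian (a * F) G = a * wronskian F G := by
  simp only [wronskian, derivative_mul, ha]
  ring

theorem wronskian_trans {a b c e : R[X]} (ha : derivative a = 0) (hb : derivative b = 0)
    (hc : derivative c = 0) (he : derivative e = 0) (F G : R[X]) :
    wronskian (a * F + b * G) (c * F + e * G) = (a * e - b * c) * wronskian F G := by
  simp only [wronskian, derivative_add, derivative_mul, ha, hb, hc, he]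
  ring

theorem pow_dvd_X_sub_C_mul_wronskian (a : R) (i j : ℕ) (h g : R[X]) :
    (X - C a) ^ (i + j) ∣ (X - C a) * wronskian ((X - C a) ^ i * h) ((X - C a) ^ j * g) := by
  refine ⟨h * ((j : R[X]) * g + theta a g) - ((i : R[X]) * h + theta a h) * g, ?_⟩
  have e1 := theta_pow_mul a i h
  have e2 := theta_pow_mul a j g
  simp only [theta] at e1 e2 ⊢
  simp only [wronskian, mul_sub, pow_add]
  linear_combination ((X - C a) ^ i * h) * e2 - ((X - C a) ^ j * g) * e1

end Ring

section Field

variable {k : Type u} [Field k]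

theorem cast_rootMultiplicity {a : k[X]} (ha : a ≠ 0) (hd : derivative a = 0) (x : k) :
    (a.rootMultiplicity x : k) = 0 := by
  obtain ⟨r, hr, hr2⟩ := exists_eq_pow_rootMultiplicity_mul_and_not_dvd a ha x
  have h := theta_pow_mul x (a.rootMultiplicity x) r
  rw [← hr, show theta x a = 0 by simp [theta, hd], eq_comm, mul_eq_zero,
    or_iff_right (pow_ne_zero _ (X_sub_C_ne_zero x))] at h
  have h2 := congrArg (eval x) h
  have hrx : r.eval x ≠ 0 := fun h0 => hr2 ((dvd_iff_isRoot).2 h0)
  simpa [hrx] using h2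

theorem cast_natDegree {a : k[X]} (hd : derivative a = 0) : (a.natDegree : k) = 0 := by
  rcases eq_or_ne a 0 with rfl | ha
  · simp
  have h := coeff_theta a a.natDegree
  rw [show theta 0 a = 0 by simp [theta, hd], coeff_zero, coeff_natDegree, eq_comm, mul_eq_zero,
    or_iff_left (leadingCoeff_ne_zero.2 ha)] at h
  exact h

theorem rootMultiplicity_add_of_lt {s t : k[X]} {x : k} (hs : s ≠ 0)
    (h : s.rootMultiplicity x < t.rootMultiplicity x) :
    (s + t).rootMultiplicity x = s.rootMultiplicity x := by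
  have ht : t ≠ 0 := fun h0 => by rw [h0, rootMultiplicity_zero] at h; omega
  have h1 : (X - C x) ^ (s.rootMultiplicity x + 1) ∣ t := (le_rootMultiplicity_iff ht).1 h
  have hst : s + t ≠ 0 := fun h0 => by
    rw [eq_neg_of_add_eq_zero_left h0] at hs
    have := congrArg (rootMultiplicity x) (eq_neg_of_add_eq_zero_left h0)
    rw [show -t = C (-1) * t by simp, rootMultiplicity_mul (by simpa using ht), rootMultiplicity_C,
      zero_add] at this
    omega
  refine le_antisymm ?_ ((le_rootMultiplicity_iff hst).2 (dvd_add (pow_rootMultiplicity_dvd s x)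
    ((pow_dvd_pow _ (Nat.le_succ _)).trans h1)))
  by_contra! h2
  have h3 := (le_rootMultiplicity_iff hst).1 (show s.rootMultiplicity x + 1 ≤ _ from h2)
  have h4 := (dvd_add_left h1).1 h3
  exact absurd ((le_rootMultiplicity_iff hs).2 h4) (by omega)

theorem rootMultiplicity_cast_of_comb {F G : k[X]} {x : k} {e : ℕ} (he : 1 ≤ e) (hek : (e : k) ≠ 0)
    (hram : HasRamIdx (Submodule.span k {F, G}) x e) (hbp : ∃ s ∈ Submodule.span k {F, G}, s.eval x ≠ 0)
    {a b g : k[X]} (ha : derivative a = 0) (hb : derivative b = 0) (hg : g = a * F + b * G) (hg0 : g ≠ 0) :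
    (g.rootMultiplicity x : k) = 0 ∨ (g.rootMultiplicity x : k) = e := by
  obtain ⟨u, hu, hu0, hue⟩ := hram.1
  have hue' : u.rootMultiplicity x = e := le_antisymm (hram.2 u hu hu0) hue
  obtain ⟨t, ht, htx⟩ := hbp
  obtain ⟨α, β, rfl⟩ := mem_span_pair_C.1 hu
  obtain ⟨γ, δ, rfl⟩ := mem_span_pair_C.1 ht
  have hux : (C α * F + C β * G).eval x = 0 := ((rootMultiplicity_pos hu0).1 (by omega))
  simp only [eval_add, eval_mul, eval_C] at hux htx
  have hdet : α * δ - β * γ ≠ 0 := by
    intro h0
    have hα : α = 0 := by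
      by_contra hα
      exact htx (mul_left_cancel₀ hα (by linear_combination γ * hux + G.eval x * h0))
    have hβ : β = 0 := by
      by_contra hβ
      exact htx (mul_left_cancel₀ hβ (by linear_combination δ * hux - F.eval x * h0))
    exact hu0 (by simp [hα, hβ])
  let c1 := C (α * δ - β * γ)⁻¹ * (C δ * a - C γ * b)
  let c2 := C (α * δ - β * γ)⁻¹ * (C α * b - C β * a)
  have hg' : g = c1 * (C α * F + C β * G) + c2 * (C γ * F + C δ * G) := by
    have h1 : C (α * δ - β * γ)⁻¹ * C (α * δ - β * γ) = 1 := by rw [← map_mul, inv_mul_cancel₀ hdet, map_one]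
    simp only [c1, c2, map_sub, map_mul] at h1 ⊢
    linear_combination hg - (a * F + b * G) * h1
  have hd1 : derivative c1 = 0 := by simp [c1, ha, hb]
  have hd2 : derivative c2 = 0 := by simp [c2, ha, hb]
  have htx' : (C γ * F + C δ * G).eval x ≠ 0 := by simpa using htx
  have e1 : c1 ≠ 0 → ((c1 * (C α * F + C β * G)).rootMultiplicity x : k) = e := fun h => by
    rw [rootMultiplicity_mul (mul_ne_zero h hu0), Nat.cast_add, cast_rootMultiplicity h hd1, zero_add, hue']
  have e2 : c2 ≠ 0 → ((c2 * (C γ * F + C δ * G)).rootMultiplicity x : k) = 0 := fun h => by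
    rw [rootMultiplicity_mul (mul_ne_zero h (fun h0 => htx' (by rw [h0, eval_zero]))), Nat.cast_add,
      cast_rootMultiplicity h hd2, zero_add, rootMultiplicity_eq_zero htx', Nat.cast_zero]
  rw [hg'] at hg0 ⊢
  by_cases h1 : c1 = 0
  · rw [h1, zero_mul, zero_add] at hg0 ⊢
    exact Or.inl (e2 (left_ne_zero_of_mul hg0))
  by_cases h2 : c2 = 0
  · rw [h2, zero_mul, add_zero]
    exact Or.inr (e1 h1)
  have hs1 : c1 * (C α * F + C β * G) ≠ 0 := mul_ne_zero h1 hu0
  have hs2 : c2 * (C γ * F + C δ * G) ≠ 0 := mul_ne_zero h2 (fun h0 => htx' (by rw [h0, eval_zero]))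
  rcases lt_trichotomy ((c1 * (C α * F + C β * G)).rootMultiplicity x)
    ((c2 * (C γ * F + C δ * G)).rootMultiplicity x) with h | h | h
  · exact Or.inr (by rw [rootMultiplicity_add_of_lt hs1 h]; exact e1 h1)
  · exact absurd ((e1 h1).symm.trans ((congrArg Nat.cast h).trans (e2 h2))) hek
  · exact Or.inl (by rw [add_comm, rootMultiplicity_add_of_lt hs2 h]; exact e2 h2)

theorem natDegree_cast_of_comb {F G : k[X]} {d : ℕ} (hd : 1 ≤ d)
    (hV : IsPencil d (Submodule.span k {F, G})) (hw : wronskian F G ≠ 0)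
    (hdeg : 2 * d - 2 ≤ (wronskian F G).natDegree) {a b g : k[X]} (ha : derivative a = 0)
    (hb : derivative b = 0) (hg : g = a * F + b * G) (hg0 : g ≠ 0) :
    (g.natDegree : k) = d ∨ (g.natDegree : k) = d - 1 := by
  obtain ⟨j, F1, G1, hN, hspan⟩ := exists_normal hV
  obtain ⟨α, β, rfl⟩ := mem_span_pair_C.1 (hspan.le (Submodule.subset_span (Set.mem_insert F _)))
  obtain ⟨γ, δ, rfl⟩ := mem_span_pair_C.1 (hspan.le (Submodule.subset_span (Set.mem_insert_of_mem _ rfl)))
  rw [wronskian_comb] at hw hdeg
  have hw1 : wronskian F1 G1 ≠ 0 := right_ne_zero_of_mul hw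
  have hG1 : G1.natDegree = d - 1 := by
    refine le_antisymm hN.degG' ?_
    have h1 := natDegree_wronskian_lt_add hw1
    have h2 := natDegree_C_mul_le (α * δ - β * γ) (wronskian F1 G1)
    have := hN.natDegreeF
    omega
  let c1 := C α * a + C γ * b
  let c2 := C β * a + C δ * b
  have hg' : g = c1 * F1 + c2 * G1 := by rw [hg]; simp only [c1, c2]; ring
  have hd1 : derivative c1 = 0 := by simp [c1, ha, hb]
  have hd2 : derivative c2 = 0 := by simp [c2, ha, hb]
  have hF10 : F1 ≠ 0 := fun h => hw1 (by rw [h, wronskian_zero_left])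
  have hG10 : G1 ≠ 0 := fun h => hw1 (by rw [h, wronskian_zero_right])
  have e1 : c1 ≠ 0 → ((c1 * F1).natDegree : k) = d := fun h => by
    rw [natDegree_mul h hF10, Nat.cast_add, cast_natDegree hd1, zero_add, hN.natDegreeF]
  have e2 : c2 ≠ 0 → ((c2 * G1).natDegree : k) = d - 1 := fun h => by
    rw [natDegree_mul h hG10, Nat.cast_add, cast_natDegree hd2, zero_add, hG1, Nat.cast_sub hd, Nat.cast_one]
  rw [hg'] at hg0 ⊢
  by_cases h1 : c1 = 0
  · rw [h1, zero_mul, zero_add] at hg0 ⊢
    exact Or.inr (e2 (left_ne_zero_of_mul hg0))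
  by_cases h2 : c2 = 0
  · rw [h2, zero_mul, add_zero]
    exact Or.inl (e1 h1)
  rcases lt_trichotomy (c1 * F1).natDegree (c2 * G1).natDegree with h | h | h
  · exact Or.inr (by rw [natDegree_add_eq_right_of_natDegree_lt h]; exact e2 h2)
  · exact absurd ((e1 h1).symm.trans ((congrArg Nat.cast h).trans (e2 h2)))
      fun h' => one_ne_zero (sub_eq_self.1 h'.symm)
  · exact Or.inl (by rw [natDegree_add_eq_left_of_natDegree_lt h]; exact e1 h1)

/-- Shifting `H` by `g` times constants for the derivation until the degrees are in general position. -/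
theorem exists_adjust {p : ℕ} [Fact p.Prime] [CharP k p] {H g : k[X]} (hw : wronskian H g ≠ 0)
    (hlt : 2 * g.natDegree ≤ (wronskian H g).natDegree) :
    ∃ T : k[X], wronskian (H + T * g) g = wronskian H g ∧
      (H + T * g).natDegree + g.natDegree = (wronskian H g).natDegree + 1 := by
  classical
  have hg0 : g ≠ 0 := fun h => hw (by rw [h, wronskian_zero_right])
  have hW : ∀ T : k[X], derivative T = 0 → wronskian (H + T * g) g = wronskian H g := fun T hT => by
    simp only [wronskian, derivative_add, derivative_mul, hT]; ring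
  have hex : ∃ n, ∃ T : k[X], derivative T = 0 ∧ (H + T * g).natDegree = n := ⟨_, 0, derivative_zero, rfl⟩
  obtain ⟨T, hT, hTn⟩ := Nat.find_spec hex
  refine ⟨T, hW T hT, ?_⟩
  set H' := H + T * g with hH'
  have hW' := hW T hT
  rw [← hH'] at hW'
  rw [← hW'] at hw hlt ⊢
  have hH0 : H' ≠ 0 := fun h => hw (by rw [h, wronskian_zero_left])
  have hup := natDegree_wronskian_lt_add hw
  have hne : (g.natDegree : k) - (H'.natDegree : k) ≠ 0 := by
    intro h0
    have hdvd : p ∣ H'.natDegree - g.natDegree := by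
      rw [← CharP.cast_eq_zero_iff k p, Nat.cast_sub (by omega)]
      linear_combination -h0
    obtain ⟨j, hj⟩ : ∃ j, H'.natDegree = g.natDegree + j := ⟨H'.natDegree - g.natDegree, by omega⟩
    let c := H'.leadingCoeff / g.leadingCoeff
    have hjk : (j : k) = 0 := by rw [CharP.cast_eq_zero_iff k p]; simpa [hj] using hdvd
    have hT' : derivative (T - C c * X ^ j) = 0 := by simp [hT, derivative_X_pow, hjk]
    have h1 : H + (T - C c * X ^ j) * g = H' - C c * X ^ j * g := by rw [hH']; ring
    have h2 : H' - C c * X ^ j * g ≠ 0 := by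
      intro h0'
      apply hw
      have := hW _ hT'
      rw [h1, h0', wronskian_zero_left] at this
      rw [hW', this]
    have h3 : (H' - C c * X ^ j * g).natDegree < H'.natDegree := by
      refine lt_of_le_of_ne ((natDegree_sub_le _ _).trans (max_le le_rfl ?_)) fun heq => ?_
      · rw [mul_assoc]
        refine (natDegree_C_mul_le _ _).trans (natDegree_mul_le.trans ?_)
        rw [natDegree_X_pow]; omega
      · refine leadingCoeff_ne_zero.2 h2 ?_
        rw [leadingCoeff, heq, coeff_sub, mul_assoc, coeff_C_mul, hj, coeff_X_pow_mul, ← hj, coeff_natDegree,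
          coeff_natDegree]
        simp only [c]
        rw [div_mul_cancel₀ _ (leadingCoeff_ne_zero.2 hg0), sub_self]
    exact Nat.find_min hex (hTn ▸ h3) ⟨_, hT', by rw [h1]⟩
  have hcoef : (X * wronskian H' g).coeff (H'.natDegree + g.natDegree) =
      H'.leadingCoeff * g.leadingCoeff * ((g.natDegree : k) - H'.natDegree) := by
    rw [show X * wronskian H' g = H' * theta 0 g - theta 0 H' * g by
        simp only [theta, wronskian, map_zero, sub_zero]; ring,
      coeff_sub, coeff_mul_add_eq_of_natDegree_le le_rfl (natDegree_theta_le le_rfl),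
      coeff_mul_add_eq_of_natDegree_le (natDegree_theta_le le_rfl) le_rfl, coeff_theta, coeff_theta]
    simp only [coeff_natDegree]
    ring
  have h4 := le_natDegree_of_ne_zero (p := X * wronskian H' g) (n := H'.natDegree + g.natDegree) (by
    rw [hcoef]
    exact mul_ne_zero (mul_ne_zero (leadingCoeff_ne_zero.2 hH0) (leadingCoeff_ne_zero.2 hg0)) hne)
  rw [natDegree_X_mul hw] at h4
  omega

end Field

section DVR

open IsLocalRing

variable {A : Type u} [CommRing A] [IsDomain A] [IsDiscreteValuationRing A]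
  {K : Type u} [Field K] [Algebra A K]

/-- Combinations of `F` and `G` with coefficients killed by the derivation. -/
def Comb (F G : K[X]) (v : A[X]) : Prop :=
  ∃ a b : K[X], derivative a = 0 ∧ derivative b = 0 ∧ v.map (algebraMap A K) = a * F + b * G

theorem Comb.lin {F G : K[X]} {u v : A[X]} (hu : Comb F G u) (hv : Comb F G v) {a b : A[X]}
    (ha : derivative a = 0) (hb : derivative b = 0) : Comb F G (a * u + b * v) := by
  obtain ⟨a1, b1, ha1, hb1, h1⟩ := hu
  obtain ⟨a2, b2, ha2, hb2, h2⟩ := hv
  have ha' : derivative (a.map (algebraMap A K)) = 0 := by rw [derivative_map, ha, Polynomial.map_zero]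
  have hb' : derivative (b.map (algebraMap A K)) = 0 := by rw [derivative_map, hb, Polynomial.map_zero]
  refine ⟨a.map (algebraMap A K) * a1 + b.map (algebraMap A K) * a2,
    a.map (algebraMap A K) * b1 + b.map (algebraMap A K) * b2, ?_, ?_, ?_⟩
  · simp [derivative_mul, ha', hb', ha1, ha2]
  · simp [derivative_mul, ha', hb', hb1, hb2]
  · rw [Polynomial.map_add, Polynomial.map_mul, Polynomial.map_mul, h1, h2]; ring

theorem Comb.of_C_mul [IsFractionRing A K] {F G : K[X]} {v : A[X]} {c : A} (hc : c ≠ 0)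
    (h : Comb F G (C c * v)) : Comb F G v := by
  obtain ⟨a, b, ha, hb, h1⟩ := h
  have hc' : algebraMap A K c ≠ 0 := fun h0 => hc ((IsFractionRing.injective A K) (by rw [h0, map_zero]))
  refine ⟨C (algebraMap A K c)⁻¹ * a, C (algebraMap A K c)⁻¹ * b, by simp [ha], by simp [hb], ?_⟩
  rw [mul_assoc, mul_assoc, ← mul_add, ← h1, Polynomial.map_mul, map_C, ← mul_assoc, ← map_mul,
    inv_mul_cancel₀ hc', map_one, one_mul]

/-- One step: an inseparable reduction is removed, dropping the valuation of the Wronskian. -/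
theorem step (p : ℕ) [Fact p.Prime] [CharP (ResidueField A) p] [IsFractionRing A K] (ι : ResidueField A →+* A) (hι : ∀ x, residue A (ι x) = x)
    (W : A[X]) (N : ℕ) (hWN : W.coeff N = 1) {F G : K[X]} {H g : A[X]} {c : A} (hc0 : c ≠ 0)
    (hc : residue A c = 0) (heq : wronskian H g = C c * W) (hH : Comb F G H) (hg : Comb F G g)
    (hne : H.map (residue A) ≠ 0 ∨ g.map (residue A) ≠ 0) :
    ∃ (H1 g1 : A[X]) (c1 : A) (C1 D1 : (ResidueField A)[X]), c1 ≠ 0 ∧ DvdNotUnit c1 c ∧
      wronskian H1 g1 = C c1 * W ∧ Comb F G H1 ∧ Comb F G g1 ∧ g1.map (residue A) ≠ 0 ∧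
      H.map (residue A) = g1.map (residue A) * C1 ∧ g.map (residue A) = g1.map (residue A) * D1 ∧
      derivative C1 = 0 ∧ derivative D1 = 0 := by
  classical
  set Hb := H.map (residue A) with hHb
  set gb := g.map (residue A) with hgb
  obtain ⟨q, hq⟩ : ∃ q, q = EuclideanDomain.gcd Hb gb := ⟨_, rfl⟩
  have hq0 : q ≠ 0 := fun h0 => by
    rcases EuclideanDomain.gcd_eq_zero_iff.1 (hq.symm.trans h0) with ⟨h1, h2⟩
    exact hne.elim (fun h => h h1) (fun h => h h2)
  obtain ⟨C1, hC1⟩ : q ∣ Hb := hq ▸ EuclideanDomain.gcd_dvd_left Hb gb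
  obtain ⟨D1, hD1⟩ : q ∣ gb := hq ▸ EuclideanDomain.gcd_dvd_right Hb gb
  have hcop : IsCoprime C1 D1 := by
    refine ⟨EuclideanDomain.gcdA Hb gb, EuclideanDomain.gcdB Hb gb, mul_left_cancel₀ hq0 ?_⟩
    linear_combination -hq - EuclideanDomain.gcd_eq_gcd_ab Hb gb - EuclideanDomain.gcdA Hb gb * hC1 -
      EuclideanDomain.gcdB Hb gb * hD1
  have hW0 : wronskian C1 D1 = 0 := by
    have h := congrArg (Polynomial.map (residue A)) heq
    rw [map_wronskian, Polynomial.map_mul, map_C, hc, map_zero, zero_mul, ← hHb, ← hgb, hC1, hD1] at h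
    have h' : (q * q) * wronskian C1 D1 = 0 := by
      rw [← h]; simp only [wronskian, derivative_mul]; ring
    exact (mul_eq_zero.1 h').resolve_left (mul_ne_zero hq0 hq0)
  obtain ⟨hC1d, hD1d⟩ := (hcop.wronskian_eq_zero_iff).1 hW0
  have hp : p ≠ 0 := (Fact.out : p.Prime).ne_zero
  obtain ⟨a', b', hab⟩ : IsCoprime (contract p C1) (contract p D1) := by
    rw [← isCoprime_expand hp, expand_contract p hC1d hp, expand_contract p hD1d hp]
    exact hcop
  let a := expand (ResidueField A) p a'
  let b := expand (ResidueField A) p b'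
  have hab' : a * C1 + b * D1 = 1 := by
    have h := congrArg (expand (ResidueField A) p) hab
    rwa [map_add, map_mul, map_mul, map_one, expand_contract p hC1d hp, expand_contract p hD1d hp] at h
  have hda : ∀ r, derivative (expand (ResidueField A) p r) = 0 := fun r => by
    rw [derivative_expand, CharP.cast_eq_zero, zero_mul, mul_zero]
  have hlift : ∀ r : (ResidueField A)[X], derivative r = 0 → derivative (r.map ι) = 0 := fun r hr => by
    rw [derivative_map, hr, Polynomial.map_zero]
  have hres : ∀ r : (ResidueField A)[X], (r.map ι).map (residue A) = r := fun r => by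
    rw [Polynomial.map_map, show (residue A).comp ι = RingHom.id _ from RingHom.ext hι, Polynomial.map_id]
  let U := D1.map ι * H + (-(C1.map ι)) * g
  let g1 := a.map ι * H + b.map ι * g
  have hdC : derivative (-(C1.map ι)) = 0 := by rw [derivative_neg, hlift _ hC1d, neg_zero]
  have hWU : wronskian U g1 = C c * W := by
    rw [wronskian_trans (hlift _ hD1d) hdC (hlift _ (hda _)) (hlift _ (hda _)), heq]
    have h1 : D1.map ι * b.map ι - -(C1.map ι) * a.map ι = 1 := by
      rw [← Polynomial.map_one ι, ← hab']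
      simp only [Polynomial.map_add, Polynomial.map_mul]
      ring
    rw [h1, one_mul]
  have hU0 : U ≠ 0 := fun h => by
    rw [h, wronskian_zero_left, eq_comm, mul_eq_zero, C_eq_zero, or_iff_right hc0] at hWU
    rw [hWU, coeff_zero] at hWN
    exact zero_ne_one hWN
  have hUb : U.map (residue A) = 0 := by
    simp only [U, Polynomial.map_add, Polynomial.map_mul, Polynomial.map_neg, hres]
    rw [← hHb, ← hgb, hC1, hD1]
    ring
  have hg1b : g1.map (residue A) = q := by
    simp only [g1, Polynomial.map_add, Polynomial.map_mul, hres]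
    rw [← hHb, ← hgb, hC1, hD1]
    linear_combination q * hab'
  obtain ⟨π, hπ⟩ := IsDiscreteValuationRing.exists_irreducible A
  have hπu : ¬ IsUnit (C π : A[X]) := fun h => hπ.not_isUnit (isUnit_C.1 h)
  have hmem : ∀ x, residue A x = 0 ↔ π ∣ x := fun x => by
    rw [residue_eq_zero_iff, hπ.maximalIdeal_eq, Ideal.mem_span_singleton]
  obtain ⟨r, H1, hH1, hUr⟩ := WfDvdMonoid.max_power_factor' hU0 hπu
  have hr : r ≠ 0 := by
    rintro rfl
    rw [pow_zero, one_mul] at hUr
    refine hH1 (C_dvd_iff_dvd_coeff _ _ |>.2 fun i => (hmem _).1 ?_)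
    rw [← hUr, ← coeff_map, hUb, coeff_zero]
  rw [← map_pow] at hUr
  have hπr : π ^ r ≠ 0 := pow_ne_zero _ hπ.ne_zero
  rw [hUr, wronskian_mul_zero_deriv derivative_C] at hWU
  have hcN : π ^ r * (wronskian H1 g1).coeff N = c := by
    have h := congrArg (fun P => P.coeff N) hWU
    simpa only [coeff_C_mul, hWN, mul_one] using h
  refine ⟨H1, g1, (wronskian H1 g1).coeff N, C1, D1, ?_, ⟨?_, π ^ r, ?_, ?_⟩, ?_, ?_, ?_, ?_, ?_, ?_, hC1d, hD1d⟩
  · intro h; rw [h, mul_zero] at hcN; exact hc0 hcN.symm
  · intro h; rw [h, mul_zero] at hcN; exact hc0 hcN.symm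
  · exact fun h => hπ.not_isUnit ((isUnit_pow_iff hr).1 h)
  · rw [mul_comm]; exact hcN.symm
  · apply mul_left_cancel₀ (C_ne_zero.2 hπr)
    rw [hWU, ← mul_assoc, ← map_mul, hcN]
  · have h := Comb.lin hH hg (hlift _ hD1d) hdC
    rw [show D1.map ι * H + -(C1.map ι) * g = C (π ^ r) * H1 from hUr] at h
    exact h.of_C_mul hπr
  · exact Comb.lin hH hg (hlift _ (hda _)) (hlift _ (hda _))
  · rw [hg1b]; exact hq0
  · rw [hg1b]; exact hC1
  · rw [hg1b]; exact hD1

/-- Iterating the step. -/
theorem exists_unit (p : ℕ) [Fact p.Prime] [CharP (ResidueField A) p] [IsFractionRing A K] (ι : ResidueField A →+* A) (hι : ∀ x, residue A (ι x) = x)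
    (W : A[X]) (N : ℕ) (hWN : W.coeff N = 1) {F G : K[X]} (c : A) :
    ∀ {H g : A[X]}, c ≠ 0 → wronskian H g = C c * W → Comb F G H → Comb F G g → g.map (residue A) ≠ 0 →
      ∃ (H1 g1 : A[X]) (u : A), IsUnit u ∧ wronskian H1 g1 = C u * W ∧ Comb F G g1 ∧
        g1.map (residue A) ≠ 0 ∧ g1.map (residue A) ∣ g.map (residue A) := by
  induction c using (wellFounded_dvdNotUnit (α := A)).induction with
  | _ c ih =>
    intro H g hc0 heq hH hg hg0
    by_cases hc : residue A c = 0
    · obtain ⟨H1, g1, c1, C1, D1, hc1, hlt, heq1, hH1, hg1, hg10, -, hD, -, -⟩ :=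
        step p ι hι W N hWN hc0 hc heq hH hg (Or.inr hg0)
      obtain ⟨H2, g2, u, hu, h1, h2, h3, h4⟩ := ih c1 hlt hc1 heq1 hH1 hg1 hg10
      exact ⟨H2, g2, u, hu, h1, h2, h3, h4.trans ⟨D1, hD⟩⟩
    · exact ⟨H, g, c, (residue_ne_zero_iff_isUnit c).1 hc, heq, hg, hg0, dvd_rfl⟩

end DVR

/-- `∏ (X - P_i)^(e_i - 1)` over a ring. -/
def Z0 {R : Type u} [CommRing R] {n : ℕ} (P : Fin n → R) (e : Fin n → ℕ) : R[X] :=
  ∏ i, (X - C (P i)) ^ (e i - 1)

theorem map_Z0 {R k : Type u} [CommRing R] [Field k] {n : ℕ} (f : R →+* k) (P : Fin n → R) (e : Fin n → ℕ) :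
    (Z0 P e).map f = W0 (fun i => f (P i)) e := by
  simp [Z0, W0, Polynomial.map_prod, Polynomial.map_pow, Polynomial.map_sub]

open IsLocalRing (residue) in
set_option maxHeartbeats 1600000 in
theorem inseparable_limit {p : ℕ} [Fact p.Prime] {A : Type u} [CommRing A] [IsDomain A]
    [IsDiscreteValuationRing A] [CharP A p] [IsAlgClosed (IsLocalRing.ResidueField A)]
    (ι : IsLocalRing.ResidueField A →+* A) (hι : ∀ x, IsLocalRing.residue A (ι x) = x)
    {K : Type u} [Field K] [Algebra A K] [IsFractionRing A K]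
    {d n : ℕ} {e : Fin n → ℕ} (he : Admissible p d e) (hlt : ∀ i, e i < p)
    {P : Fin n → A} {F G : A[X]} (hF : F.natDegree ≤ d) (hG : G.natDegree ≤ d)
    (hind : LinearIndependent (IsLocalRing.ResidueField A)
      ![F.map (IsLocalRing.residue A), G.map (IsLocalRing.residue A)])
    (hgen : Submodule.span K {F.map (algebraMap A K), G.map (algebraMap A K)} ∈
      ramMaps d (fun i => algebraMap A K (P i)) e)
    (hinsep : ¬ IsSeparable (Submodule.span (IsLocalRing.ResidueField A)
        {F.map (IsLocalRing.residue A), G.map (IsLocalRing.residue A)}))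
    (hdist : Function.Injective (fun i => IsLocalRing.residue A (P i))) :
    ∃ m ε : ℕ, 1 ≤ m ∧ m * p ≤ d ∧ ε ≤ 1 ∧
      ∃ V ∈ ramMaps (d + m * p - 1 + ε) (fun i => IsLocalRing.residue A (P i)) e,
        HasRamIdxInf (d + m * p - 1 + ε) V (2 * m * p - 1 + 2 * ε) := by
  classical
  let φ := algebraMap A K
  have hφ : Function.Injective φ := IsFractionRing.injective A K
  have : CharP (IsLocalRing.ResidueField A) p := by
    refine (CharP.charP_iff_prime_eq_zero Fact.out).2 ?_
    rw [← map_natCast (residue A), CharP.cast_eq_zero, map_zero]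
  have : CharP K p := charP_of_injective_algebraMap hφ p
  have hd := one_le_d he
  have hsum := sum_sub_one he
  have hp2 := (Fact.out : p.Prime).two_le
  have hPinj : Function.Injective P := fun i j h => hdist (congrArg (residue A) h)
  have hPK : Function.Injective (fun i => φ (P i)) := hφ.comp hPinj
  obtain ⟨hpen, hsep, hram⟩ := hgen
  set FK := F.map φ with hFK
  set GK := G.map φ with hGK
  have hwK := Basic.wronskian_ne_zero hsep
  -- the Wronskian of the family
  have hWdvd : W0 (fun i => φ (P i)) e ∣ wronskian FK GK := W0_dvd hPK fun i => by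
    obtain ⟨s, hs, hs0, hse⟩ := (hram i).1
    obtain ⟨x, y, rfl⟩ := mem_span_pair_C.1 hs
    refine pow_dvd_wronskian_of_member (x := x) (y := y) ?_ ((le_rootMultiplicity_iff hs0).1 hse)
    by_contra! h
    exact hs0 (by simp [h.1, h.2])
  have hWle : (wronskian FK GK).natDegree ≤ 2 * d - 2 :=
    natDegree_wronskian_le' (natDegree_map_le.trans hF) (natDegree_map_le.trans hG)
  have hZdeg : (Z0 P e).natDegree = 2 * d - 2 := by
    rw [← natDegree_map_eq_of_injective hφ, map_Z0, natDegree_W0, hsum]
  have hZ1 : (Z0 P e).coeff (2 * d - 2) = 1 := by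
    refine hφ ?_
    rw [← coeff_map, map_Z0, map_one, ← hsum, ← natDegree_W0 (fun i => φ (P i)) e]
    exact W0_monic _ _
  let c := (wronskian F G).coeff (2 * d - 2)
  have heq : wronskian F G = C c * Z0 P e := by
    refine Polynomial.map_injective φ hφ ?_
    rw [map_wronskian, Polynomial.map_mul, map_C, map_Z0, ← coeff_map, map_wronskian]
    obtain ⟨r, hr⟩ := hWdvd
    have hr0 : r ≠ 0 := fun h => hwK (by rw [hr, h, mul_zero])
    have h1 := hWle
    rw [hr, (W0_monic _ _).natDegree_mul' hr0, natDegree_W0, hsum] at h1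
    rw [eq_C_of_natDegree_le_zero (show r.natDegree ≤ 0 by omega), mul_comm] at hr
    rw [← hFK, ← hGK, hr, coeff_C_mul, ← hsum, ← natDegree_W0 (fun i => φ (P i)) e, ← leadingCoeff, (W0_monic _ _).leadingCoeff,
      mul_one]
  have hc0 : c ≠ 0 := fun h => hwK (by
    rw [hFK, hGK, ← map_wronskian, heq, h, map_zero, zero_mul, Polynomial.map_zero])
  set Fb := F.map (residue A) with hFb
  set Gb := G.map (residue A) with hGb
  have hW0b : W0 (fun i => (residue A) (P i)) e ≠ 0 := (W0_monic _ _).ne_zero
  have hc : (residue A) c = 0 := by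
    by_contra h
    refine hinsep ⟨Fb, Submodule.subset_span (Set.mem_insert _ _), Gb,
      Submodule.subset_span (Set.mem_insert_of_mem _ rfl), ?_⟩
    rw [hFb, hGb, ← map_wronskian, heq, Polynomial.map_mul, map_C, map_Z0]
    exact mul_ne_zero (C_ne_zero.2 h) hW0b
  rw [LinearIndependent.pair_iff] at hind
  have hFb0 : Fb ≠ 0 := fun h => one_ne_zero (hind 1 0 (by simp [h])).1
  have hcF : Comb (A := A) FK GK F := ⟨1, 0, derivative_one, derivative_zero, by simp [hFK, φ]⟩
  have hcG : Comb (A := A) FK GK G := ⟨0, 1, derivative_zero, derivative_one, by simp [hGK, φ]⟩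
  obtain ⟨H1, g1, c1, C1, D1, hc1, -, heq1, hH1, hg1, hg10, hC, hD, hC1, hD1⟩ :=
    step p ι hι (Z0 P e) (2 * d - 2) hZ1 hc0 hc heq hcF hcG (Or.inl hFb0)
  -- the first step drops the degree by at least `p`
  have hq : (g1.map (residue A)).natDegree + p ≤ d := by
    have hge : ∀ r : (IsLocalRing.ResidueField A)[X], derivative r = 0 → r.natDegree ≠ 0 → p ≤ r.natDegree :=
      fun r hr hr0 => Nat.le_of_dvd (Nat.pos_of_ne_zero hr0)
        ((CharP.cast_eq_zero_iff (IsLocalRing.ResidueField A) p _).1 (cast_natDegree hr))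
    have hFd : Fb.natDegree ≤ d := natDegree_map_le.trans hF
    have hGd : Gb.natDegree ≤ d := natDegree_map_le.trans hG
    rw [hFb, hC] at hFd
    rw [hGb, hD] at hGd
    by_cases h1 : C1.natDegree = 0
    · by_cases h2 : D1.natDegree = 0
      · exfalso
        rw [hFb, hGb, hC, hD, eq_C_of_natDegree_eq_zero h1, eq_C_of_natDegree_eq_zero h2] at hind
        have h3 := (hind (D1.coeff 0) (-(C1.coeff 0)) (by simp only [smul_eq_C_mul, map_neg]; ring))
        rw [hFb, hC, eq_C_of_natDegree_eq_zero h1, neg_eq_zero.1 h3.2, map_zero, mul_zero] at hFb0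
        exact hFb0 rfl
      · rw [natDegree_mul hg10 (fun h => h2 (by rw [h, natDegree_zero]))] at hGd
        have := hge D1 hD1 h2
        omega
    · rw [natDegree_mul hg10 (fun h => h1 (by rw [h, natDegree_zero]))] at hFd
      have := hge C1 hC1 h1
      omega
  obtain ⟨H, g, u, hu, heq2, ⟨a, b, ha, hb, hab⟩, hg0, hdvd⟩ :=
    exists_unit p ι hι (Z0 P e) (2 * d - 2) hZ1 c1 hc1 heq1 hH1 hg1 hg10
  set gb := g.map (residue A) with hgb
  set Hb := H.map (residue A) with hHb
  set gK := g.map φ with hgK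
  have hgK0 : gK ≠ 0 := (Polynomial.map_ne_zero_iff hφ).2 fun h => hg0 (by rw [hgb, h, Polynomial.map_zero])
  have hγ : gb.natDegree + p ≤ d := by have := natDegree_le_of_dvd hdvd hg10; omega
  have hWb : wronskian Hb gb = C ((residue A) u) * W0 (fun i => (residue A) (P i)) e := by
    rw [hHb, hgb, ← map_wronskian, heq2, Polynomial.map_mul, map_C, map_Z0]
  have hub : (residue A) u ≠ 0 := (hu.map (residue A)).ne_zero
  have hwb : wronskian Hb gb ≠ 0 := by rw [hWb]; exact mul_ne_zero (C_ne_zero.2 hub) hW0b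
  -- the second order equation
  obtain ⟨ui, hui⟩ := hu.exists_right_inv
  let q := C ui * (derivative (derivative H) * derivative g - derivative H * derivative (derivative g))
  have hE : second (Z0 P e) g = g * q := by
    have h := second_eq_of_wronskian H g
    rw [heq2] at h
    have h2 : second (C u * Z0 P e) g = C u * second (Z0 P e) g := by
      simp only [second, derivative_C_mul]; ring
    rw [h2] at h
    have h3 : C ui * C u = (1 : A[X]) := by rw [← map_mul, mul_comm, hui, map_one]
    simp only [q]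
    linear_combination C ui * h - second (Z0 P e) g * h3
  -- the degree of the special member
  have hgne : g ≠ 0 := fun h => hg0 (by rw [hgb, h, Polynomial.map_zero])
  have hcast : (gb.natDegree : IsLocalRing.ResidueField A) = (d : IsLocalRing.ResidueField A) ∨
      (gb.natDegree : IsLocalRing.ResidueField A) = (d : IsLocalRing.ResidueField A) - 1 := by
    obtain ⟨hqd, hqN⟩ := top_equation hZdeg.le hZ1 hgne hE
    have hEb : second ((Z0 P e).map (residue A)) gb = gb * q.map (residue A) := by
      rw [hgb, ← map_second, hE, Polynomial.map_mul]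
    obtain ⟨-, hqN'⟩ := top_equation (R := IsLocalRing.ResidueField A) (natDegree_map_le.trans hZdeg.le)
      (by rw [coeff_map, hZ1, map_one]) hg0 hEb
    rw [show X ^ 2 * q.map (residue A) = (X ^ 2 * q).map (residue A) by simp, coeff_map, hqN] at hqN'
    have hΓ : (g.natDegree : A) = d ∨ (g.natDegree : A) = d - 1 := by
      have h := natDegree_cast_of_comb hd hpen hwK (by
        rw [hFK, hGK, ← map_wronskian, natDegree_map_eq_of_injective hφ, heq, natDegree_C_mul hc0, hZdeg])
        ha hb hab hgK0
      rw [hgK, natDegree_map_eq_of_injective hφ] at h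
      rcases h with h | h
      · exact Or.inl (hφ (by rw [map_natCast, map_natCast]; exact h))
      · exact Or.inr (hφ (by rw [map_natCast, map_sub, map_natCast, map_one]; exact h))
    simp only [map_sub, map_mul, map_natCast, map_ofNat, Nat.cast_sub (show 2 ≤ 2 * d by omega), Nat.cast_mul,
      Nat.cast_ofNat] at hqN'
    have key : ((gb.natDegree : IsLocalRing.ResidueField A) - d) * (gb.natDegree - (d - 1)) = 0 := by
      rcases hΓ with h | h <;>
      · have h' := congrArg (residue A) h
        simp only [map_sub, map_natCast, map_one] at h'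
        rw [h'] at hqN'
        linear_combination -hqN'
    rcases mul_eq_zero.1 key with h | h
    · exact Or.inl (sub_eq_zero.1 h)
    · exact Or.inr (sub_eq_zero.1 h)
  -- the ramification points
  have hrootW : ∀ i, (wronskian Hb gb).rootMultiplicity ((residue A) (P i)) + 1 = e i := fun i => by
    have hs : W0 (fun j => (residue A) (P j)) e = (X - C ((residue A) (P i))) ^ (e i - 1) *
        ∏ j ∈ Finset.univ.erase i, (X - C ((residue A) (P j))) ^ (e j - 1) :=
      (Finset.mul_prod_erase _ _ (Finset.mem_univ i)).symm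
    have hne : (∏ j ∈ Finset.univ.erase i, (X - C ((residue A) (P j))) ^ (e j - 1)).eval ((residue A) (P i)) ≠ 0 := by
      rw [eval_prod]
      refine Finset.prod_ne_zero_iff.2 fun j hj => ?_
      rw [eval_pow, eval_sub, eval_X, eval_C]
      exact pow_ne_zero _ (sub_ne_zero.2 fun h => Finset.ne_of_mem_erase hj (hdist h.symm))
    rw [hWb, rootMultiplicity_mul (by rw [← hWb]; exact hwb), rootMultiplicity_C, zero_add, hs,
      rootMultiplicity_mul (hs ▸ hW0b), rootMultiplicity_X_sub_C_pow, rootMultiplicity_eq_zero hne]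
    have := (he.1 i).1
    omega
  have hbase : ∀ i, Hb.eval ((residue A) (P i)) = 0 → gb.eval ((residue A) (P i)) ≠ 0 := by
    intro i hH0 hg0'
    let x := P i
    let Q := ∏ j ∈ Finset.univ.erase i, (X - C (P j)) ^ (e j - 1)
    have hZ : Z0 P e = (X - C x) ^ (e i - 1) * Q := (Finset.mul_prod_erase _ _ (Finset.mem_univ i)).symm
    have he1 := (he.1 i).1
    have hek : ((e i : ℕ) : K) ≠ 0 := fun h => (he.1 i).2.2 ((CharP.cast_eq_zero_iff K p _).1 h)
    obtain ⟨g2, hg2, hg2n⟩ := exists_eq_pow_rootMultiplicity_mul_and_not_dvd gK hgK0 (φ x)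
    set Γ := gK.rootMultiplicity (φ x)
    obtain ⟨Φ, hΦ, hΦx⟩ := exists_second_eq (φ x) (e i - 1) Γ (Q.map φ) g2
    rw [← hg2, show (X - C (φ x)) ^ (e i - 1) * Q.map φ = (Z0 P e).map φ by simp [hZ], hgK, ← map_second,
      hE, Polynomial.map_mul, ← hgK] at hΦ
    have hΓ := rootMultiplicity_cast_of_comb (by omega) hek (hram i) (hpen.2.2.2 _) ha hb hab hgK0
    have hzero : Φ.eval (φ x) = 0 := by
      rw [hΦx, Nat.cast_sub (show 1 ≤ e i by omega), Nat.cast_one]
      have hmul : (Γ : K) * Γ - Γ - ((e i : K) - 1) * Γ = 0 := by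
        rcases hΓ with h | h <;> rw [show (Γ : K) = _ from h] <;> ring
      rw [hmul, mul_zero]
    obtain ⟨Φ1, hΦ1⟩ := (dvd_iff_isRoot (a := φ x)).2 hzero
    have h4 : (X - C (φ x)) ^ e i ∣ g2 * ((X - C (φ x)) ^ 2 * q.map φ) := by
      refine ⟨Φ1, mul_left_cancel₀ (pow_ne_zero Γ (X_sub_C_ne_zero (φ x))) ?_⟩
      rw [hg2, hΦ1] at hΦ
      rw [show e i = e i - 1 + 1 by omega, pow_succ]
      rw [pow_add] at hΦ
      linear_combination hΦ
    have h5 : (X - C (φ x)) ^ e i ∣ (X - C (φ x)) ^ 2 * q.map φ :=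
      ((((irreducible_X_sub_C (φ x)).coprime_iff_not_dvd).2 hg2n).pow_left).dvd_of_dvd_mul_left h4
    have h6 : (X - C x) ^ e i ∣ (X - C x) ^ 2 * q := by
      refine (map_dvd_map φ hφ ((monic_X_sub_C x).pow _)).1 ?_
      simpa using h5
    obtain ⟨T, hT⟩ := h6
    obtain ⟨g3, hg3, hg3n⟩ := exists_eq_pow_rootMultiplicity_mul_and_not_dvd gb hg0 ((residue A) x)
    set j := gb.rootMultiplicity ((residue A) x) with hjdef
    obtain ⟨Φb, hΦb, hΦbx⟩ := exists_second_eq ((residue A) x) (e i - 1) j (Q.map (residue A)) g3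
    rw [← hg3, show (X - C ((residue A) x)) ^ (e i - 1) * Q.map (residue A) = (Z0 P e).map (residue A) by simp [hZ], hgb,
      ← map_second, hE, Polynomial.map_mul, ← hgb] at hΦb
    have hT' : (X - C ((residue A) x)) ^ 2 * q.map (residue A) = (X - C ((residue A) x)) ^ e i * T.map (residue A) := by
      simpa using congrArg (Polynomial.map (residue A)) hT
    have h7 : Φb = (X - C ((residue A) x)) * (g3 * T.map (residue A)) := by
      apply mul_left_cancel₀ (pow_ne_zero (j + (e i - 1)) (X_sub_C_ne_zero ((residue A) x)))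
      rw [← hΦb, hg3, mul_left_comm, hT', pow_add]
      conv_lhs => rw [show e i = e i - 1 + 1 by omega, pow_succ]
      ring
    have h8 : Φb.eval ((residue A) x) = 0 := by rw [h7]; simp
    have hQ0 : (Q.map (residue A)).eval ((residue A) x) ≠ 0 := by
      simp only [Q, Polynomial.map_prod, eval_prod]
      refine Finset.prod_ne_zero_iff.2 fun l hl => ?_
      simp only [Polynomial.map_pow, Polynomial.map_sub, map_X, map_C, eval_pow, eval_sub, eval_X, eval_C]
      exact pow_ne_zero _ (sub_ne_zero.2 fun h => Finset.ne_of_mem_erase hl (hdist h.symm))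
    have hg30 : g3.eval ((residue A) x) ≠ 0 := fun h => hg3n ((dvd_iff_isRoot).2 h)
    rw [hΦbx, Nat.cast_sub (show 1 ≤ e i by omega), Nat.cast_one, mul_eq_zero,
      or_iff_right (mul_ne_zero hQ0 hg30)] at h8
    have h9 : (j : IsLocalRing.ResidueField A) * ((j : IsLocalRing.ResidueField A) - (e i : IsLocalRing.ResidueField A)) = 0 := by
      linear_combination h8
    have hH00 : Hb ≠ 0 := fun h => hwb (by rw [h, wronskian_zero_left])
    have hjpos : 0 < j := (rootMultiplicity_pos hg0).2 hg0'
    have hipos : 0 < Hb.rootMultiplicity ((residue A) x) := (rootMultiplicity_pos hH00).2 hH0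
    obtain ⟨h', hh'⟩ := pow_rootMultiplicity_dvd Hb ((residue A) x)
    have h10 := pow_dvd_X_sub_C_mul_wronskian ((residue A) x) (Hb.rootMultiplicity ((residue A) x)) j h' g3
    rw [← hh', ← hg3, show Hb.rootMultiplicity ((residue A) x) + j = (Hb.rootMultiplicity ((residue A) x) + j - 1) + 1 by omega,
      pow_succ', mul_dvd_mul_iff_left (X_sub_C_ne_zero _), ← le_rootMultiplicity_iff hwb] at h10
    have h11 : (wronskian Hb gb).rootMultiplicity ((residue A) x) + 1 = e i := hrootW i
    have hje : j < e i := by omega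
    have := hlt i
    rcases mul_eq_zero.1 h9 with h | h
    · have := Nat.le_of_dvd hjpos ((CharP.cast_eq_zero_iff (IsLocalRing.ResidueField A) p j).1 h)
      omega
    · have h12 : ((e i - j : ℕ) : IsLocalRing.ResidueField A) = 0 := by
        rw [Nat.cast_sub hje.le]; linear_combination -h
      have := Nat.le_of_dvd (by omega) ((CharP.cast_eq_zero_iff (IsLocalRing.ResidueField A) p _).1 h12)
      omega
  -- the degrees
  obtain ⟨m, ε, hm, hε, hdm⟩ : ∃ m ε, 1 ≤ m ∧ ε ≤ 1 ∧ gb.natDegree + m * p + ε = d := by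
    rcases hcast with h | h
    · obtain ⟨m, hm⟩ : p ∣ d - gb.natDegree := by
        rw [← CharP.cast_eq_zero_iff (IsLocalRing.ResidueField A) p, Nat.cast_sub (by omega), h, sub_self]
      refine ⟨m, 0, Nat.pos_of_ne_zero fun h0 => ?_, zero_le_one, ?_⟩
      · subst h0; omega
      · rw [mul_comm]; omega
    · obtain ⟨m, hm⟩ : p ∣ d - 1 - gb.natDegree := by
        rw [← CharP.cast_eq_zero_iff (IsLocalRing.ResidueField A) p, Nat.cast_sub (by omega),
          Nat.cast_sub hd, Nat.cast_one, h, sub_self]
      refine ⟨m, 1, Nat.pos_of_ne_zero fun h0 => ?_, le_rfl, ?_⟩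
      · subst h0; omega
      · rw [mul_comm]; omega
  have hWdeg : (wronskian Hb gb).natDegree = 2 * d - 2 := by
    rw [hWb, natDegree_C_mul hub, natDegree_W0, hsum]
  obtain ⟨T, hWT, hdegT⟩ := exists_adjust (p := p) hwb (by omega)
  set H' := Hb + T * gb with hH'
  have hw' : wronskian H' gb ≠ 0 := by rw [hWT]; exact hwb
  have hδ : H'.natDegree = d + m * p - 1 + ε := by omega
  refine ⟨m, ε, hm, by omega, hε, Submodule.span _ {H', gb}, ?_⟩
  have hlt' : gb.natDegree < H'.natDegree := by omega
  have h2mp : 2 * m * p = 2 * (m * p) := mul_assoc _ _ _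
  have hH'0 : H' ≠ 0 := fun h => hw' (by rw [h, wronskian_zero_left])
  have hli : LinearIndependent (IsLocalRing.ResidueField A) ![H', gb] := LinearIndependent.pair_iff.2 fun x y hxy => by
    have h1 := congrArg (fun r => r.coeff H'.natDegree) hxy
    simp [coeff_eq_zero_of_natDegree_lt hlt', hH'0] at h1
    rw [h1, zero_smul, zero_add, smul_eq_zero, or_iff_left hg0] at hxy
    exact ⟨h1, hxy⟩
  have hrk : Module.finrank (IsLocalRing.ResidueField A)
      (Submodule.span (IsLocalRing.ResidueField A) {H', gb}) = 2 := by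
    rw [← Matrix.range_cons_cons_empty H' gb ![], finrank_span_eq_card hli]
    simp
  have hpen' : IsPencil (d + m * p - 1 + ε) (Submodule.span (IsLocalRing.ResidueField A) {H', gb}) := by
    refine ⟨Submodule.span_le.2 ?_, hrk, ⟨H', Submodule.subset_span (Set.mem_insert _ _), hδ⟩, fun x => ?_⟩
    · rintro _ (rfl | rfl) <;> refine mem_degreeLE.2 (natDegree_le_iff_degree_le.1 ?_) <;> omega
    · by_contra! h
      have h1 := h H' (Submodule.subset_span (Set.mem_insert _ _))
      have h2 := h gb (Submodule.subset_span (Set.mem_insert_of_mem _ rfl))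
      have h3 : Hb.eval x = 0 := by simpa [hH', h2] using h1
      by_cases hx : ∃ i, (residue A) (P i) = x
      · obtain ⟨i, rfl⟩ := hx
        exact hbase i h3 h2
      · push Not at hx
        have h4 := congrArg (eval x) hWb
        simp [wronskian, h3, h2, W0, eval_prod, hub] at h4
        obtain ⟨i, hi⟩ := Finset.prod_eq_zero_iff.1 h4
        exact hx i (sub_eq_zero.1 ((pow_eq_zero_iff'.1 hi.2).1)).symm
  refine ⟨⟨hpen', ⟨H', Submodule.subset_span (Set.mem_insert _ _), gb,
      Submodule.subset_span (Set.mem_insert_of_mem _ rfl), hw'⟩, fun i => ?_⟩,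
    ⟨gb, Submodule.subset_span (Set.mem_insert_of_mem _ rfl), hg0, by omega⟩, fun s hs hs0 => ?_⟩
  · exact (hasRamIdx_of_wronskian (p := p) (F := H') (G := gb) hrk (hpen'.2.2.2 _)
      (Submodule.subset_span (Set.mem_insert _ _)) (Submodule.subset_span (Set.mem_insert_of_mem _ rfl)) hw'
      (by rw [hWT]; exact hrootW i) (Or.inr (by have := hlt i; omega))).1
  · obtain ⟨x, y, rfl⟩ := mem_span_pair_C.1 hs
    by_cases hx : x = 0
    · subst hx
      have hy : y ≠ 0 := fun h => hs0 (by simp [h])
      rw [map_zero, zero_mul, zero_add, natDegree_C_mul hy]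
      omega
    · rw [natDegree_add_eq_left_of_natDegree_lt, natDegree_C_mul hx]
      · omega
      · rw [natDegree_C_mul hx]
        exact lt_of_le_of_lt (natDegree_C_mul_le _ _) hlt'

end

end Groth.Agent.Lib.RamP1.Limit
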