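import Groth.Agent.Lib.RamP1.Generic
import Mathlib.RingTheory.Valuation.LocalSubring
import Mathlib.RingTheory.Valuation.ValuationSubring
import Mathlib.FieldTheory.IsAlgClosed.Basic

/-!
# Finiteness when the characteristic is large
-/

open Polynomial
open W4c1limliniiii
open Groth.Agent.Lib.RamP1.Basic Groth.Agent.Lib.RamP1.Generic

universe u v

namespace Groth.Agent.Lib.RamP1.Proper

noncomputable section

theorem wronskian_ne_zero_aux {R : Type v} [Field R] {d : ℕ} (hchar : ∀ m : ℕ, 0 < m → m ≤ d → (m : R) ≠ 0)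
    {F G : R[X]} (hG : G.natDegree ≤ d) (hF0 : F ≠ 0) (hG0 : G ≠ 0)
    (hne : F.natDegree < G.natDegree) : wronskian F G ≠ 0 := by
  intro hw
  obtain ⟨g, hg⟩ : ∃ g, G.natDegree = g + 1 := ⟨G.natDegree - 1, by omega⟩
  have h := congrArg (fun r => r.coeff (F.natDegree + g)) hw
  simp only [wronskian, coeff_sub, coeff_zero] at h
  have h1 : (F * derivative G).coeff (F.natDegree + g) = F.leadingCoeff * (G.leadingCoeff * (g + 1)) := by
    rw [coeff_mul_add_eq_of_natDegree_le le_rfl ((natDegree_derivative_le _).trans (by omega)), coeff_derivative,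
      leadingCoeff, leadingCoeff, hg]
  have h2 : (derivative F * G).coeff (F.natDegree + g) = (F.natDegree : R) * F.leadingCoeff * G.leadingCoeff := by
    rcases Nat.eq_zero_or_pos F.natDegree with hf | hf
    · rw [derivative_of_natDegree_zero hf, zero_mul, coeff_zero, hf]; simp
    · obtain ⟨f, hf'⟩ : ∃ f, F.natDegree = f + 1 := ⟨F.natDegree - 1, by omega⟩
      rw [show F.natDegree + g = f + G.natDegree by omega,
        coeff_mul_add_eq_of_natDegree_le ((natDegree_derivative_le _).trans (by omega)) le_rfl, coeff_derivative,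
        leadingCoeff, leadingCoeff, hf']
      push_cast; ring
  rw [h1, h2] at h
  refine hchar (g + 1 - F.natDegree) (by omega) (by omega) ?_
  rw [Nat.cast_sub (by omega)]
  refine (mul_eq_zero.1 (show ((g + 1 : ℕ) - (F.natDegree : R)) * (F.leadingCoeff * G.leadingCoeff) = 0 by
    push_cast; linear_combination h)).resolve_right ?_
  exact mul_ne_zero (leadingCoeff_ne_zero.2 hF0) (leadingCoeff_ne_zero.2 hG0)

theorem wronskian_ne_zero_of_indep {R : Type v} [Field R] {d : ℕ}
    (hchar : ∀ m : ℕ, 0 < m → m ≤ d → (m : R) ≠ 0) {F G : R[X]} (hF : F.natDegree ≤ d) (hG : G.natDegree ≤ d)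
    (hind : ∀ a b : R, C a * F + C b * G = 0 → a = 0 ∧ b = 0) : wronskian F G ≠ 0 := by
  have hF0 : F ≠ 0 := fun h => one_ne_zero (hind 1 0 (by simp [h])).1
  have hG0 : G ≠ 0 := fun h => one_ne_zero (hind 0 1 (by simp [h])).2
  rcases lt_trichotomy F.natDegree G.natDegree with h | h | h
  · exact wronskian_ne_zero_aux hchar hG hF0 hG0 h
  · let F' := F - C (F.leadingCoeff / G.leadingCoeff) * G
    have hne : F' ≠ 0 := fun h0 => one_ne_zero (hind 1 (-(F.leadingCoeff / G.leadingCoeff)) (by
      rw [map_one, one_mul, map_neg, neg_mul, ← sub_eq_add_neg]; exact h0)).1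
    have hle : F'.natDegree ≤ G.natDegree :=
      (natDegree_sub_le _ _).trans (max_le h.le (natDegree_C_mul_le _ _))
    have hlt : F'.natDegree < G.natDegree := by
      refine lt_of_le_of_ne hle fun he => leadingCoeff_ne_zero.2 hne ?_
      rw [leadingCoeff, he]
      simp only [F', coeff_sub, coeff_C_mul, coeff_natDegree]
      rw [div_mul_cancel₀ _ (leadingCoeff_ne_zero.2 hG0), leadingCoeff, h, sub_self]
    have h2 := wronskian_ne_zero_aux hchar hG hne hG0 hlt
    intro hw
    refine h2 ?_
    have h3 := wronskian_comb F G 1 (-(F.leadingCoeff / G.leadingCoeff)) 0 1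
    simp only [map_one, one_mul, map_zero, zero_mul, zero_add, map_neg, neg_mul, ← sub_eq_add_neg] at h3
    rw [h3, hw, mul_zero]
  · intro hw
    exact wronskian_ne_zero_aux hchar hF hG0 hF0 h (by rw [← wronskian_neg_eq, hw, neg_zero])

variable {k : Type u} [Field k] {n : ℕ} (d : ℕ)

/-- The two rows of a Plücker vector at a pivot. -/
def row1 {R : Type v} [CommRing R] (π : Fin (d + 1) × Fin (d + 1) → R) (ab : Fin (d + 1) × Fin (d + 1)) : R[X] :=
  ofVec d fun j => π (j, ab.2)

/-- The two rows of a Plücker vector at a pivot. -/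
def row2 {R : Type v} [CommRing R] (π : Fin (d + 1) × Fin (d + 1) → R) (ab : Fin (d + 1) × Fin (d + 1)) : R[X] :=
  ofVec d fun j => π (ab.1, j)

theorem map_ofVec {R : Type v} {S : Type*} [CommRing R] [CommRing S] (φ : R →+* S) (v : Fin (d + 1) → R) :
    (ofVec d v).map φ = ofVec d fun m => φ (v m) := by
  simp [ofVec, Polynomial.map_sum, Polynomial.map_monomial]

theorem smul_ofVec {R : Type v} [CommRing R] (c : R) (v : Fin (d + 1) → R) :
    C c * ofVec d v = ofVec d fun m => c * v m := by
  simp [ofVec, Finset.mul_sum, C_mul_monomial]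

theorem comb_ofVec {R : Type v} [CommRing R] {F G : R[X]} (hF : F.natDegree ≤ d) (hG : G.natDegree ≤ d) (a b : R) :
    (ofVec d fun m : Fin (d + 1) => a * F.coeff m + b * G.coeff m) = C a * F + C b * G := by
  conv_rhs => rw [← ofVec_coeff d hF, ← ofVec_coeff d hG, smul_ofVec, smul_ofVec]
  simp only [ofVec, ← Finset.sum_add_distrib, ← map_add]

set_option maxHeartbeats 800000 in
/-- Every coordinate takes finitely many values on the zero set. -/
theorem exists_poly [IsAlgClosed k] {p : ℕ} [CharP k p] (hp : p = 0 ∨ d < p) (T : k[X])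
    (v : Fin (d + 1) × Fin (d + 1)) :
    ∃ Q : k[X], Q ≠ 0 ∧ ∀ π : Fin (d + 1) × Fin (d + 1) → k, (∀ a, π (a, a) = 0) →
      (∀ ab, wronskian (row1 d π ab) (row2 d π ab) = C (π ab) * T) → Q.eval (π v) = 0 := by
  classical
  let M := MvPolynomial (Fin (d + 1) × Fin (d + 1)) k
  let gen : Fin (d + 1) × Fin (d + 1) → M := MvPolynomial.X
  let E : Set M := Set.range (fun a => gen (a, a)) ∪
    Set.range fun abj : (Fin (d + 1) × Fin (d + 1)) × ℕ =>
      (wronskian (row1 d gen abj.1) (row2 d gen abj.1) - C (gen abj.1) * T.map MvPolynomial.C).coeff abj.2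
  by_cases hex : ∃ Q : k[X], Q ≠ 0 ∧ aeval (gen v) Q ∈ Ideal.span E
  · obtain ⟨Q, hQ0, hQ⟩ := hex
    refine ⟨Q, hQ0, fun π hdiag hwr => ?_⟩
    let ε : M →ₐ[k] k := MvPolynomial.aeval π
    have hle : Ideal.span E ≤ RingHom.ker ε.toRingHom := by
      refine Ideal.span_le.2 ?_
      rintro q (⟨a, rfl⟩ | ⟨⟨ab, j⟩, rfl⟩)
      · rw [SetLike.mem_coe, RingHom.mem_ker]
        exact (MvPolynomial.aeval_X π _).trans (hdiag a)
      · rw [SetLike.mem_coe, RingHom.mem_ker, ← coeff_map]
        have e0 : ∀ ab, ε.toRingHom (gen ab) = π ab := fun ab => MvPolynomial.aeval_X π ab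
        simp only [row1, row2, wronskian, Polynomial.map_sub, Polynomial.map_mul, ← derivative_map,
          map_ofVec, map_C, e0, Polynomial.map_map]
        rw [show ε.toRingHom.comp MvPolynomial.C = RingHom.id k from ε.comp_algebraMap, Polynomial.map_id]
        have := hwr ab
        simp only [row1, row2, wronskian] at this
        erw [this]
        rw [sub_self, coeff_zero]
    have h : ε (aeval (gen v) Q) = 0 := hle hQ
    rw [← Polynomial.aeval_algHom_apply, show ε (gen v) = π v from MvPolynomial.aeval_X π v] at h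
    simpa using h
  exfalso
  push Not at hex
  let S : Submonoid M := (nonZeroDivisors k[X]).map (aeval (gen v))
  obtain ⟨Q, hQ, hIQ, hQS⟩ := Ideal.exists_le_prime_disjoint (Ideal.span E) S (Set.disjoint_left.2 (by
    rintro q hq ⟨q', hq', rfl⟩
    exact hex q' (nonZeroDivisors.ne_zero hq') hq))
  let L := FractionRing (M ⧸ Q)
  let φ : M →ₐ[k] L := (IsScalarTower.toAlgHom k (M ⧸ Q) L).comp (Ideal.Quotient.mkₐ k Q)
  have hφ0 : ∀ q, φ q = 0 ↔ q ∈ Q := fun q => by
    simp only [φ, AlgHom.comp_apply, IsScalarTower.coe_toAlgHom', Ideal.Quotient.mkₐ_eq_mk]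
    rw [map_eq_zero_iff _ (IsFractionRing.injective (M ⧸ Q) L), Ideal.Quotient.eq_zero_iff_mem]
  let π : Fin (d + 1) × Fin (d + 1) → L := fun ab => φ (gen ab)
  have hdiag : ∀ a, π (a, a) = 0 := fun a =>
    (hφ0 _).2 (hIQ (Ideal.subset_span (Or.inl ⟨a, rfl⟩)))
  have hwr : ∀ ab, wronskian (row1 d π ab) (row2 d π ab) = C (π ab) * T.map (algebraMap k L) := fun ab => by
    rw [← sub_eq_zero]
    refine Polynomial.ext fun j => ?_
    have h := (hφ0 _).2 (hIQ (Ideal.subset_span (Or.inr ⟨(ab, j), rfl⟩)))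
    change φ.toRingHom _ = 0 at h
    rw [← coeff_map] at h
    simp only [row1, row2, wronskian, Polynomial.map_sub, Polynomial.map_mul, ← derivative_map, map_ofVec,
      map_C, Polynomial.map_map] at h
    rw [show φ.toRingHom.comp MvPolynomial.C = algebraMap k L from φ.comp_algebraMap] at h
    simp only [row1, row2, wronskian]
    exact h
  -- a valuation with `π v` not integral
  have hvR : π v ∉ (algebraMap k L).range := by
    rintro ⟨c, hc⟩
    refine Set.disjoint_left.1 hQS ((hφ0 (aeval (gen v) (X - C c))).1 ?_)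
      ⟨X - C c, mem_nonZeroDivisors_of_ne_zero (X_sub_C_ne_zero c), rfl⟩
    rw [← Polynomial.aeval_algHom_apply, map_sub, aeval_X, aeval_C, hc]
    exact sub_self _
  have : IsIntegrallyClosedIn (algebraMap k L).range L := by
    refine Subring.isIntegrallyClosedIn_iff.2 fun {x} hx => ?_
    obtain ⟨q, hqm, hq⟩ := hx
    have hsurj : Function.Surjective (algebraMap k L).rangeRestrict := RingHom.rangeRestrict_surjective _
    obtain ⟨q', hq'⟩ := Polynomial.map_surjective _ hsurj q
    have hint : IsAlgebraic k x := ⟨q', fun h0 => hqm.ne_zero (by rw [← hq', h0, Polynomial.map_zero]), by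
      rw [aeval_def]
      rw [← hq', eval₂_map] at hq
      exact hq⟩
    exact minpoly.degree_eq_one_iff.1
      (IsAlgClosed.degree_eq_one_of_irreducible k (minpoly.irreducible hint.isIntegral))
  obtain ⟨V, hkV, hvV⟩ := Subring.exists_le_valuationSubring_of_isIntegrallyClosedIn hvR
  obtain ⟨m, -, hm⟩ := Finset.exists_max_image Finset.univ (fun ab => V.valuation (π ab)) ⟨v, Finset.mem_univ v⟩
  have hgt : 1 < V.valuation (π m) := by
    refine lt_of_lt_of_le ?_ (hm v (Finset.mem_univ v))
    rw [← not_le, V.valuation_le_one_iff]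
    exact hvV
  have hm0 : π m ≠ 0 := fun h => by rw [h, map_zero] at hgt; exact not_lt.2 zero_le hgt
  let π' : Fin (d + 1) × Fin (d + 1) → V := fun ab => ⟨π ab / π m, (V.valuation_le_one_iff _).1 (by
    rw [map_div₀]; exact div_le_one_of_le₀ (hm ab (Finset.mem_univ ab)) zero_le)⟩
  have hl : V.valuation (π m)⁻¹ < 1 := by
    rw [map_inv₀]; exact inv_lt_one_of_one_lt₀ hgt
  let l : V := ⟨(π m)⁻¹, (V.valuation_le_one_iff _).1 hl.le⟩
  let res := IsLocalRing.residue V
  have hlres : res l = 0 := by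
    rw [IsLocalRing.residue_eq_zero_iff]
    exact (V.valuation_lt_one_iff l).2 hl
  let T' : V[X] := T.map ((algebraMap k L).codRestrict V.toSubring fun c => hkV ⟨c, rfl⟩)
  have hkey : wronskian (row1 d π' m) (row2 d π' m) = C (π' m) * C l * T' := by
    refine Polynomial.map_injective V.subtype (fun a b h => Subtype.ext h) ?_
    have h := hwr m
    have e1 : (row1 d π' m).map V.subtype = C (π m)⁻¹ * row1 d π m := by
      simp only [row1, map_ofVec, smul_ofVec]
      congr 1; funext j; exact div_eq_inv_mul _ _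
    have e2 : (row2 d π' m).map V.subtype = C (π m)⁻¹ * row2 d π m := by
      simp only [row2, map_ofVec, smul_ofVec]
      congr 1; funext j; exact div_eq_inv_mul _ _
    have e3 : T'.map V.subtype = T.map (algebraMap k L) := by
      rw [Polynomial.map_map]; rfl
    simp only [wronskian, Polynomial.map_sub, Polynomial.map_mul, ← derivative_map, e1, e2, map_C, e3,
      derivative_C_mul] at h ⊢
    simp only [π', l, ValuationSubring.coe_subtype, div_eq_mul_inv, map_mul]
    linear_combination (C (π m)⁻¹ * C (π m)⁻¹) * h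
  let pb : Fin (d + 1) × Fin (d + 1) → IsLocalRing.ResidueField V := fun ab => res (π' ab)
  have hw0 : wronskian (row1 d pb m) (row2 d pb m) = 0 := by
    have h := congrArg (Polynomial.map res) hkey
    simp only [wronskian, Polynomial.map_sub, Polynomial.map_mul, ← derivative_map, row1, row2, map_ofVec,
      map_C, hlres, map_zero, mul_zero, zero_mul] at h
    simp only [wronskian, row1, row2, pb]
    exact h
  have hdiag' : ∀ a, pb (a, a) = 0 := fun a => by
    have : π' (a, a) = 0 := Subtype.ext (by simp [π', hdiag])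
    simp [pb, this]
  have hone : pb m = 1 := by
    have : π' m = 1 := Subtype.ext (by simp [π', hm0])
    simp [pb, this]
  refine wronskian_ne_zero_of_indep (d := d) (fun j hj hjd h0 => ?_) (natDegree_ofVec d _) (natDegree_ofVec d _)
    (fun a b hab => ?_) hw0
  · have hk : (j : k) = 0 := (res.comp ((algebraMap k L).codRestrict V.toSubring fun c => hkV ⟨c, rfl⟩)).injective
      (by rw [map_natCast, h0, map_zero])
    have hdvd := (CharP.cast_eq_zero_iff k p j).1 hk
    rcases hp with rfl | hlt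
    · have := zero_dvd_iff.1 hdvd; omega
    · have := Nat.le_of_dvd hj hdvd; omega
  · have h1 := congrArg (fun r => r.coeff (m.1 : ℕ)) hab
    have h2 := congrArg (fun r => r.coeff (m.2 : ℕ)) hab
    simp [row1, row2, coeff_ofVec, hdiag', hone] at h1 h2
    exact ⟨h1, h2⟩

theorem finite_of_large [IsAlgClosed k] {p : ℕ} [CharP k p] {P : Fin n → k} (hP : Function.Injective P)
    {e : Fin n → ℕ} (he : Admissible p d e) (hp : p = 0 ∨ d < p) : (ramMaps d P e).Finite := by
  classical
  choose Q hQ0 hQ using exists_poly (k := k) d hp (W0 P e)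
  let S : Set (Fin (d + 1) × Fin (d + 1) → k) := Set.pi Set.univ fun v => {c | (Q v).IsRoot c}
  have hS : S.Finite := Set.Finite.pi fun v => finite_setOfPred_isRoot (hQ0 v)
  let J := (Fin (d + 1) × Fin (d + 1))
  let cand : Set (Submodule k k[X]) := (fun x : (Fin (d + 1) × Fin (d + 1) → k) × J =>
    Submodule.span k ({row1 d x.1 x.2, row2 d x.1 x.2} : Set k[X])) '' (S ×ˢ Set.univ)
  refine ((hS.prod Set.finite_univ).image _).subset (fun V hV => ?_ : ramMaps d P e ⊆ cand)
  obtain ⟨hpen, hsep, hram⟩ := hV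
  obtain ⟨g, F, G, hN, rfl⟩ := exists_normal hpen
  have hc := isCoprime_of_pencil hN hpen
  have hw := Basic.wronskian_ne_zero hsep
  have hd := one_le_d he
  have hW : ∃ c, c ≠ 0 ∧ wronskian F G = C c * W0 P e := by
    have hdvd : W0 P e ∣ wronskian F G := W0_dvd hP fun i => by
      have hm := dvd_member hc (one_le_two.trans (he.1 i).1) (hram i).1
      by_cases hα : G.eval (P i) = 0
      · have hβ : F.eval (P i) ≠ 0 := fun hF => by
          obtain ⟨a, b, hab⟩ := hc
          have := congrArg (eval (P i)) hab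
          simp [hF, hα] at this
        rw [hα, map_zero, zero_mul, zero_sub, dvd_neg] at hm
        rw [← wronskian_neg_eq, dvd_neg]
        exact pow_dvd_wronskian ((isUnit_C.2 (isUnit_iff_ne_zero.2 hβ)).dvd_mul_left.1 hm) _
      · have h2 := pow_dvd_wronskian hm G
        rw [show wronskian (C (G.eval (P i)) * F - C (F.eval (P i)) * G) G = C (G.eval (P i)) * wronskian F G by
          simp only [wronskian, derivative_sub, derivative_C_mul]; ring] at h2
        exact (isUnit_C.2 (isUnit_iff_ne_zero.2 hα)).dvd_mul_left.1 h2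
    obtain ⟨r, hr⟩ := hdvd
    have hr0 : r ≠ 0 := fun h => hw (by rw [hr, h, mul_zero])
    have h1 := natDegree_wronskian_le hd hN.degF hN.degG'
    rw [hr, (W0_monic P e).natDegree_mul' hr0, natDegree_W0, sum_sub_one he] at h1
    rw [eq_C_of_natDegree_le_zero (by omega : r.natDegree ≤ 0)] at hr hr0
    exact ⟨r.coeff 0, C_ne_zero.1 hr0, by rw [hr, mul_comm]⟩
  obtain ⟨c, hc0, hW⟩ := hW
  let π : J → k := fun ab => c⁻¹ * (F.coeff ab.1 * G.coeff ab.2 - F.coeff ab.2 * G.coeff ab.1)
  have hr1 : ∀ ab, row1 d π ab = C (c⁻¹ * G.coeff ab.2) * F + C (-(c⁻¹ * F.coeff ab.2)) * G := fun ab => by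
    rw [← comb_ofVec d hN.degF hN.degG, row1]
    congr 1; funext j; simp only [π]; ring
  have hr2 : ∀ ab, row2 d π ab = C (-(c⁻¹ * G.coeff ab.1)) * F + C (c⁻¹ * F.coeff ab.1) * G := fun ab => by
    rw [← comb_ofVec d hN.degF hN.degG, row2]
    congr 1; funext j; simp only [π]; ring
  have heq : ∀ ab, wronskian (row1 d π ab) (row2 d π ab) = C (π ab) * W0 P e := fun ab => by
    rw [hr1, hr2, wronskian_comb, hW, ← mul_assoc, ← map_mul]
    congr 2
    simp only [π]
    field_simp
  refine ⟨⟨π, (⟨d, by omega⟩, ⟨g, by have := hN.g_lt; omega⟩)⟩, ⟨fun v _ => hQ v π (fun a => by simp [π]) heq, trivial⟩, ?_⟩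
  simp only [hr1, hr2, hN.Fd, hN.Fg, hN.Gd, hN.Gg, mul_one, mul_zero, neg_zero, map_zero, zero_mul, add_zero,
    zero_add]
  refine le_antisymm (Submodule.span_le.2 ?_) (Submodule.span_le.2 ?_)
  · rintro q (rfl | rfl)
    · exact mem_span_pair_C.2 ⟨c⁻¹, 0, by simp⟩
    · exact mem_span_pair_C.2 ⟨0, c⁻¹, by simp⟩
  · rintro q (rfl | rfl)
    · exact mem_span_pair_C.2 ⟨c, 0, by rw [← mul_assoc, ← map_mul, mul_inv_cancel₀ hc0]; simp⟩
    · exact mem_span_pair_C.2 ⟨0, c, by rw [← mul_assoc (C c), ← map_mul, mul_inv_cancel₀ hc0]; simp⟩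

end

end Groth.Agent.Lib.RamP1.Proper
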